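import Mathlib
import Cfsg.Agent.TH.GenLoc
import Cfsg.Agent.TH.Soc
import Cfsg.Agent.TH.GenSig
import Cfsg.Agent.TH.Alt.Base_m3
import Cfsg.Prelude.Def_GeometricClasses
import Cfsg.Agent.FixBN.Split
import Cfsg.Agent.DS.Gen.Split
import Cfsg.Agent.S0205
import Cfsg.Agent.SB.Cl.Cent_m3
import Cfsg.Agent.OddHalf.Known
import Cfsg.Agent.SB.Tor.Refl_m3
import Cfsg.Agent.DS.Cl.Inv_m3
import Cfsg.Agent.FastGrp
import Cfsg.Agent.Prune
set_option linter.all false

section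
prune_inst 0x7f00000000000000000000000000000000000000000000000000000000000000000000000000000000000000000000000000000000000000000000000000000000000000000000000000000000000000003fffffffffffffffffffffffffffbeffbdffffffff

section
prune_inst 0xfdecf8bfb87ddeffff7e7ffedcdffc39949fffe6dff943ffe0e1ff8bdf030209e56bad0df018fe0ed7e01410b87853fb7eeabfe26bdc7ffffd5ff45ffbee1ff7ffbd08519488340ffc6ffef3f07f8e7f000000000000000000000000000000000200000000

-- part: TH/GenSyl
section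
set_option linter.all false
open scoped Cfsg.Agent.FastGrp

/-!
# S3541: Sylow subgroups of the point stabiliser in the socle

`Good X r` : every `X ⊓ g X g⁻¹` contains a Sylow `r`-subgroup of `X`.
-/

set_option autoImplicit false
set_option linter.unusedSectionVars false

namespace Cfsg.Agent.TH.Gen

variable {K : Type*} [Group K] [Finite K] {X : Subgroup K} {d r : ℕ}

/-- counting by pairs of conjugate elements -/
theorem pair_count (A S₁ S₂ : Set K) {c : ℕ} (hc : ∀ u ∈ S₁, Nat.card (Subgroup.centralizer ({u} : Set K)) ≤ c)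
    (h : ∀ g ∈ A, ∃ u ∈ S₁, g⁻¹ * u * g ∈ S₂) : A.ncard ≤ S₁.ncard * S₂.ncard * c := by
  classical
  have := Fintype.ofFinite K
  have h1 : A.toFinset ⊆ (S₁.toFinset ×ˢ S₂.toFinset).biUnion
      fun z => Finset.univ.filter fun g => g⁻¹ * z.1 * g = z.2 := by
    intro g hg
    obtain ⟨u, hu, hu'⟩ := h g (Set.mem_toFinset.1 hg)
    rw [Finset.mem_biUnion]
    exact ⟨(u, g⁻¹ * u * g), Finset.mem_product.2 ⟨Set.mem_toFinset.2 hu, Set.mem_toFinset.2 hu'⟩,
      Finset.mem_filter.2 ⟨Finset.mem_univ _, rfl⟩⟩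
  rw [Set.ncard_eq_toFinset_card', Set.ncard_eq_toFinset_card', Set.ncard_eq_toFinset_card', ← Finset.card_product]
  refine (Finset.card_le_card h1).trans (Finset.card_biUnion_le_card_mul _ _ _ ?_)
  rintro ⟨u, v⟩ hz
  have hu := Set.mem_toFinset.1 (Finset.mem_product.1 hz).1
  rcases (Finset.univ.filter fun g : K => g⁻¹ * u * g = v).eq_empty_or_nonempty with h2 | ⟨g0, hg0⟩
  · show (Finset.univ.filter fun g : K => g⁻¹ * u * g = v).card ≤ c
    rw [h2]
    exact Nat.zero_le _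
  · refine le_trans ?_ (hc u hu)
    have h3 := (Finset.mem_filter.1 hg0).2
    rw [← Fintype.card_coe, ← Nat.card_eq_fintype_card]
    refine Nat.card_le_card_of_injective (fun g => ⟨g.1 * g0⁻¹, ?_⟩) ?_
    · have h4 : g.1⁻¹ * u * g.1 = g0⁻¹ * u * g0 := ((Finset.mem_filter.1 g.2).2).trans h3.symm
      rw [Subgroup.mem_centralizer_singleton_iff]
      calc g.1 * g0⁻¹ * u = g.1 * (g0⁻¹ * u * g0) * g0⁻¹ := by group
        _ = u * (g.1 * g0⁻¹) := by rw [← h4]; group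
    · intro a b hab
      exact Subtype.ext (mul_right_cancel (congrArg Subtype.val hab))

/-- every `X ⊓ g X g⁻¹` contains a Sylow `r`-subgroup of `X` -/
def Good (X : Subgroup K) (r : ℕ) : Prop := ∀ g : K, ∃ P : Sylow r X, ∀ u ∈ (P : Subgroup X), g⁻¹ * u * g ∈ X

theorem Loc.not_dvd (h : Loc X d) (hr : r.Prime) (hn : r ∣ X.index) : ¬ r ∣ d := fun hd => by
  have h1 : 1 ≤ X.index := Nat.pos_of_ne_zero Subgroup.index_ne_zero_of_finite
  have h2 := Nat.dvd_sub hn (hd.trans h.dvd)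
  rw [Nat.sub_sub_self h1] at h2
  exact hr.one_lt.ne' (Nat.dvd_one.1 h2)

theorem Loc.good (h : Loc X d) [hr : Fact r.Prime] (hd : ¬ r ∣ d) : Good X r := fun g => by
  by_cases hg : g ∈ X
  · obtain ⟨P⟩ : Nonempty (Sylow r X) := inferInstance
    exact ⟨P, fun u _ => mul_mem (mul_mem (inv_mem hg) u.2) hg⟩
  obtain ⟨e, he, he'⟩ := h.sub_dvd g hg
  obtain ⟨R⟩ : Nonempty (Sylow r ((cj g X).subgroupOf X)) := inferInstance
  have h1 : ((cj g X).subgroupOf X).index = e := by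
    have h2 := ((cj g X).subgroupOf X).card_mul_index
    have h3 : Nat.card ((cj g X).subgroupOf X) = Nat.card ↥(X ⊓ cj g X) := Nat.card_congr
      { toFun := fun a => ⟨a.1.1, a.1.2, a.2⟩
        invFun := fun a => ⟨⟨a.1, a.2.1⟩, a.2.2⟩
        left_inv := fun _ => rfl
        right_inv := fun _ => rfl }
    rw [h3, ← he', mul_comm] at h2
    exact Nat.eq_of_mul_eq_mul_right Nat.card_pos h2
  refine ⟨(R.isPGroup'.map ((cj g X).subgroupOf X).subtype).toSylow ?_, ?_⟩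
  · rw [Subgroup.index_map_subtype, h1, hr.1.dvd_mul]
    rintro (h2 | h2)
    · exact R.not_dvd_index h2
    · exact hd (h2.trans he)
  · rintro _ ⟨u, -, rfl⟩
    exact mem_cj.1 u.2

theorem Loc.good_of_index (h : Loc X d) [hr : Fact r.Prime] (hn : r ∣ X.index) : Good X r :=
  h.good (h.not_dvd hr.1 hn)

theorem eq_bot_of_forall [IsSimpleGroup K] (hX : X ≠ ⊤) {V : Subgroup K} (h : ∀ g : K, ∀ v ∈ V, g⁻¹ * v * g ∈ X) :
    V = ⊥ := by
  have h1 : V ≤ X.normalCore := fun v hv g => by simpa using h g⁻¹ v hv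
  rcases (X.normalCore_normal).eq_bot_or_eq_top with h2 | h2
  · rwa [h2, le_bot_iff] at h1
  · exact absurd (eq_top_iff.2 (h2 ▸ X.normalCore_le)) hX

theorem Good.eq_bot [IsSimpleGroup K] [Fact r.Prime] (hg : Good X r) (hX : X ≠ ⊤) {V : Subgroup X} [V.Normal]
    (hV : IsPGroup r V) : V = ⊥ := by
  rw [← Subgroup.map_eq_bot_iff_of_injective _ X.subtype_injective]
  refine eq_bot_of_forall hX fun g => ?_
  rintro _ ⟨v, hv, rfl⟩
  obtain ⟨P, hP⟩ := hg g
  obtain ⟨Q, hQ⟩ := hV.exists_le_sylow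
  obtain ⟨x, rfl⟩ := MulAction.exists_smul_eq X Q P
  refine hP v ?_
  rw [Sylow.coe_subgroup_smul]
  refine ⟨x⁻¹ * v * x, hQ (by simpa using (inferInstance : V.Normal).conj_mem v hv x⁻¹), ?_⟩
  simp [mul_assoc]

theorem isPGroup_zpowers {L : Type*} [Group L] {u : L} {k : ℕ} (h : u ^ r ^ k = 1) :
    IsPGroup r (Subgroup.zpowers u) := by
  rintro ⟨_, j, rfl⟩
  refine ⟨k, Subtype.ext ?_⟩
  show (u ^ j) ^ r ^ k = 1
  rw [← zpow_natCast, ← zpow_mul, mul_comm, zpow_mul, zpow_natCast, h, one_zpow]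

/-- the basic inequality -/
theorem Good.card_le [hr : Fact r.Prime] (hg : Good X r) (hdvd : r ∣ Nat.card X) (R : Sylow r X) {c : ℕ}
    (hc : ∀ u ∈ X, u ≠ 1 → (∃ k, u ^ r ^ k = 1) → Nat.card (Subgroup.centralizer ({u} : Set K)) ≤ c) :
    Nat.card K ≤ Nat.card (Sylow r X) * (Nat.card (Sylow r X) * (Nat.card (R : Subgroup X) - 1)) * c := by
  classical
  have h1 : ∀ P : Sylow r X, ∃ u ∈ (P : Subgroup X), u ≠ 1 := fun P =>
    (Subgroup.bot_or_exists_ne_one _).resolve_left (P.ne_bot_of_dvd_card hdvd)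
  choose f hf hf' using h1
  have := Fintype.ofFinite (Sylow r X)
  have := Fintype.ofFinite X
  have h2 := pair_count Set.univ (Set.range fun P => (f P : K))
    (Subtype.val '' ((Finset.univ.biUnion fun P : Sylow r X =>
      (Finset.univ.filter fun u : X => u ∈ (P : Subgroup X)).erase 1 : Finset X) : Set X)) (c := c) ?_ ?_
  · rw [Set.ncard_univ] at h2
    refine h2.trans (Nat.mul_le_mul_right _ (Nat.mul_le_mul ?_ ?_))
    · rw [← Nat.card_coe_set_eq]
      exact Finite.card_range_le _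
    · rw [Set.ncard_image_of_injective _ Subtype.val_injective, Set.ncard_coe_finset]
      refine (Finset.card_biUnion_le_card_mul _ _ (Nat.card (R : Subgroup X) - 1) fun P _ => ?_).trans (le_of_eq ?_)
      · rw [Finset.card_erase_of_mem (by simp [one_mem]), ← Fintype.card_subtype, ← Nat.card_eq_fintype_card]
        exact le_of_eq (congrArg (· - 1) (Nat.card_congr (Sylow.equiv P R).toEquiv))
      · rw [Finset.card_univ, Nat.card_eq_fintype_card (α := Sylow r X)]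
  · rintro _ ⟨P, rfl⟩
    obtain ⟨k, hk⟩ := P.isPGroup' ⟨f P, hf P⟩
    exact hc _ (f P).2 (fun h => hf' P (Subtype.ext h))
      ⟨k, congrArg (fun z : (P : Subgroup X) => ((z : X) : K)) hk⟩
  · intro g _
    obtain ⟨P, hP⟩ := hg g
    refine ⟨_, ⟨P, rfl⟩, ⟨_, hP _ (hf P)⟩, ?_, rfl⟩
    obtain ⟨k, hk⟩ := P.isPGroup' ⟨f P, hf P⟩
    have hk' : (f P : K) ^ r ^ k = 1 := congrArg (fun z : (P : Subgroup X) => ((z : X) : K)) hk
    have h3 : (⟨_, hP _ (hf P)⟩ : X) ^ r ^ k = 1 := by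
      apply Subtype.ext
      show (g⁻¹ * f P * g) ^ r ^ k = 1
      have h4 := conj_pow (a := g⁻¹) (b := (f P : K)) (i := r ^ k)
      rw [inv_inv] at h4
      rw [h4, hk', mul_one, inv_mul_cancel]
    obtain ⟨Q, hQ⟩ := (isPGroup_zpowers h3).exists_le_sylow
    simp only [Finset.coe_biUnion, Finset.coe_univ, Set.mem_univ, Set.iUnion_true, Set.mem_iUnion, Finset.mem_coe,
      Finset.mem_erase, Finset.mem_filter, Finset.mem_univ, true_and]
    refine ⟨Q, fun h => hf' P (Subtype.ext ?_), hQ (Subgroup.mem_zpowers _)⟩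
    have h5 : g⁻¹ * f P * g = 1 := congrArg Subtype.val h
    have h6 : (f P : K) = g * (g⁻¹ * f P * g) * g⁻¹ := by group
    rw [h6, h5, mul_one, mul_inv_cancel]
    rfl

/-- the point stabiliser in the socle is not abelian -/
theorem Loc.not_comm [IsSimpleGroup K] (h : Loc X d) : ¬ IsMulCommutative X := fun hc => by
  obtain ⟨r, hr, hdvd⟩ := Nat.exists_prime_and_dvd (fun h1 => h.ne_bot (Subgroup.card_eq_one.1 h1))
  have := Fact.mk hr
  obtain ⟨R⟩ : Nonempty (Sylow r X) := inferInstance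
  have hN : (R : Subgroup X).Normal := ⟨fun a ha b => by
    rwa [hc.1.comm b a, mul_inv_cancel_right]⟩
  have hR := R.ne_bot_of_dvd_card hdvd
  have h1 : ¬ r ∣ X.index := fun h2 => hR ((h.good_of_index h2).eq_bot h.ne_top R.isPGroup')
  let P : Sylow r K := (R.isPGroup'.map X.subtype).toSylow (by
    rw [Subgroup.index_map_subtype, hr.dvd_mul]
    rintro (h2 | h2)
    · exact R.not_dvd_index h2
    · exact h1 h2)
  have hPX : (P : Subgroup K) ≤ X := Subgroup.map_subtype_le _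
  have h2 : Subgroup.normalizer ((P : Subgroup K) : Set K) ≤ X := by
    refine h.norm _ hPX ?_ ?_
    · show (R : Subgroup X).map X.subtype ≠ ⊥
      rwa [Ne, Subgroup.map_eq_bot_iff_of_injective _ X.subtype_injective]
    · rintro σ hσ _ ⟨y, hy, rfl⟩
      obtain ⟨k, hk⟩ := R.isPGroup' ⟨y, hy⟩
      have hk' : (y : K) ^ r ^ k = 1 := congrArg (fun z : (R : Subgroup X) => ((z : X) : K)) hk
      have h3 : (⟨σ y, hσ y y.2⟩ : X) ^ r ^ k = 1 := by
        apply Subtype.ext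
        show (σ y) ^ r ^ k = 1
        rw [← map_pow, hk', map_one]
      obtain ⟨Q, hQ⟩ := (isPGroup_zpowers h3).exists_le_sylow
      have := Sylow.unique_of_normal R hN
      rw [Subsingleton.elim Q R] at hQ
      exact ⟨_, hQ (Subgroup.mem_zpowers _), rfl⟩
  have h3 : Subgroup.normalizer ((P : Subgroup K) : Set K) ≤ Subgroup.centralizer ((P : Subgroup K) : Set K) :=
    fun g hg u hu => congrArg Subtype.val (hc.1.comm (⟨u, hPX hu⟩ : X) ⟨g, h2 hg⟩)
  rcases (MonoidHom.normal_ker (MonoidHom.transferSylow P h3)).eq_bot_or_eq_top with h4 | h4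
  · have h5 := MonoidHom.ker_transferSylow_isComplement' P h3
    rw [h4, Subgroup.isComplement'_bot_left] at h5
    exact h.ne_top (eq_top_iff.2 (h5 ▸ hPX))
  · have h5 := MonoidHom.not_dvd_card_ker_transferSylow P h3
    rw [h4, Subgroup.card_top] at h5
    exact h5 (hdvd.trans X.card_subgroup_dvd_card)

end Cfsg.Agent.TH.Gen
end

-- part: TH/Uni
section
set_option linter.all false
open scoped Cfsg.Agent.FastGrp

/-!
# S3541: subnormal subgroups of the point stabiliser, and the ambient form of the basic facts (helper73)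

`In G H m` : `H ≤ G` are subgroups of an ambient group and `Half (H.subgroupOf G) m`.
-/

set_option autoImplicit false
set_option linter.unusedSectionVars false

namespace Cfsg.Agent.TH

section

variable {G : Type*} [Group G] [Finite G] {H : Subgroup G} {m : ℕ}

/-- the orbits of a normal subgroup `B` of `M` have length dividing the length of the orbits of `M` -/
theorem relIndex_dvd_of_normal {K M B : Subgroup G} (hB : B ≤ M) (hn : ∀ a ∈ M, ∀ x ∈ B, a * x * a⁻¹ ∈ B) :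
    K.relIndex B ∣ K.relIndex M := by
  have h1 : (B.subgroupOf M).Normal := ⟨fun x hx a => hn a a.2 x hx⟩
  have h2 := relIndex_dvd_index_of_normal_right (K.subgroupOf M) (B.subgroupOf M)
  rwa [Subgroup.relIndex_subgroupOf hB] at h2

/-- if `K ⊓ B` has index prime to `s` in `B`, every `s`-subgroup of `B` is `B`-conjugate into `K` -/
theorem exists_cj_le_of_relIndex {s : ℕ} [Fact s.Prime] {K B Y : Subgroup G} (h : ¬ s ∣ K.relIndex B)
    (hY : IsPGroup s Y) (hYB : Y ≤ B) : ∃ b ∈ B, cj b Y ≤ K := by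
  obtain ⟨b, hb⟩ := Alt.exists_cj_le_of_not_dvd (H := K.subgroupOf B) h (Y := Y.subgroupOf B)
    (hY.comap_of_injective B.subtype B.subtype_injective)
  refine ⟨b, b.2, ?_⟩
  rintro _ ⟨y, hy, rfl⟩
  exact hb (conj_mem_cj b (x := ⟨y, hYB hy⟩) hy)

theorem le_normalizer_of_conj {M N : Subgroup G} (h : ∀ a ∈ M, ∀ x ∈ N, a * x * a⁻¹ ∈ N) :
    M ≤ Subgroup.normalizer (N : Set G) := fun a ha => Subgroup.mem_normalizer_iff.2 fun x =>
  ⟨h a ha x, fun hx => by simpa [mul_assoc] using h _ (inv_mem ha) _ hx⟩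

/-- the orbits of `B ⊴ M ⊴ H` have length dividing `d` -/
theorem Half.relIndex_dvd_d₂ (hH : Half H m) {M B : Subgroup G} (hM : M ≤ H) (hMn : ∀ a ∈ H, ∀ x ∈ M, a * x * a⁻¹ ∈ M)
    (hB : B ≤ M) (hBn : ∀ a ∈ M, ∀ x ∈ B, a * x * a⁻¹ ∈ B) (g : G) : (TH.cj g H).relIndex B ∣ Nat.card H / m :=
  (relIndex_dvd_of_normal hB hBn).trans (hH.relIndex_dvd_d hM (le_normalizer_of_conj hMn) g)

/-- **UNI** : `B ⊴ M ⊴ H`, `s ∤ d`; every `s`-subgroup of `B` is `B`-conjugate into every conjugate of `H` -/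
theorem Half.uni (hH : Half H m) {s : ℕ} [Fact s.Prime] (hs : ¬ s ∣ Nat.card H / m) {M B Y : Subgroup G} (hM : M ≤ H)
    (hMn : ∀ a ∈ H, ∀ x ∈ M, a * x * a⁻¹ ∈ M) (hB : B ≤ M) (hBn : ∀ a ∈ M, ∀ x ∈ B, a * x * a⁻¹ ∈ B)
    (hY : IsPGroup s Y) (hYB : Y ≤ B) (g : G) : ∃ b ∈ B, TH.cj b Y ≤ TH.cj g H :=
  exists_cj_le_of_relIndex (fun h => hs (h.trans (hH.relIndex_dvd_d₂ hM hMn hB hBn g))) hY hYB

theorem LieCtx.dvd_index {G : Type} [Group G] [Finite G] {T H : Subgroup G} {m p : ℕ} (c : LieCtx T H m p) :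
    p ∣ H.index := Par.dvd_of_lie c.as c.half c.prime c.lie

theorem LieCtx.not_dvd_d {G : Type} [Group G] [Finite G] {T H : Subgroup G} {m p : ℕ} (c : LieCtx T H m p) :
    ¬ p ∣ Nat.card H / m := c.half.not_dvd_d c.prime c.dvd_index

theorem AS.inf_not_comm {T : Subgroup G} (hT : AS T) (hH : Half H m) : ¬ ∀ a ∈ H ⊓ T, ∀ b ∈ H ⊓ T, a * b = b * a := by
  intro h
  have := hT.simple
  exact (Gen.loc hT hH).not_comm ⟨⟨fun a b => Subtype.ext (Subtype.ext (h _ ⟨a.2, a.1.2⟩ _ ⟨b.2, b.1.2⟩))⟩⟩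

end

/-- the ambient form of `Half` -/
structure In {Γ : Type*} [Group Γ] (G H : Subgroup Γ) (m : ℕ) : Prop where
  le : H ≤ G
  half : Half (H.subgroupOf G) m

namespace In

variable {Γ : Type*} [Group Γ] {G H : Subgroup Γ} {m : ℕ}

theorem card_sub {Y : Subgroup Γ} (h : Y ≤ G) : Nat.card (Y.subgroupOf G) = Nat.card Y :=
  Nat.card_congr (Subgroup.subgroupOfEquivOfLe h).toEquiv

theorem cj_sub (g : G) (Y : Subgroup Γ) : cj g (Y.subgroupOf G) = (cj (g : Γ) Y).subgroupOf G := by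
  ext x
  rw [mem_cj, Subgroup.mem_subgroupOf, Subgroup.mem_subgroupOf, mem_cj]
  rfl

theorem sub_le {Y Z : Subgroup Γ} (h : Y ≤ G) : Y.subgroupOf G ≤ Z.subgroupOf G ↔ Y ≤ Z :=
  ⟨fun h' y hy => h' (show (⟨y, h hy⟩ : G) ∈ Y.subgroupOf G from hy), fun h' _ hy => h' hy⟩

variable (c : In G H m)
include c

theorem card_H : Nat.card (H.subgroupOf G) = Nat.card H := card_sub c.le

/-- **MAX** -/
theorem max {M : Subgroup Γ} (h1 : H ≤ M) (h2 : M ≤ G) (h3 : ¬ G ≤ M) : M = H := by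
  by_contra hne
  have h4 : H.subgroupOf G < M.subgroupOf G :=
    lt_of_le_of_ne (fun _ hx => h1 hx) fun e => hne (le_antisymm ((sub_le h2).1 e.ge) h1)
  have h5 := c.half.max.2 _ h4
  exact h3 fun x hx => (show (⟨x, hx⟩ : G) ∈ M.subgroupOf G from h5 ▸ Subgroup.mem_top _)

theorem card_inf {g : Γ} (hg : g ∈ G) (hn : g ∉ H) : Nat.card ↥(H ⊓ cj g H) = m := by
  rw [← c.half.card_inf ⟨g, hg⟩ hn, cj_sub, ← card_sub (G := G) (inf_le_left.trans c.le)]
  rfl

theorem card_dvd_m {Y : Subgroup Γ} {g : Γ} (hg : g ∈ G) (hn : g ∉ H) (h1 : Y ≤ H) (h2 : Y ≤ cj g H) :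
    Nat.card Y ∣ m := by
  rw [← c.card_inf hg hn]
  exact Subgroup.card_dvd_of_le (le_inf h1 h2)

/-- **near points** : a subgroup of `H` centralised by an element of `G` outside `H` has order dividing `m` -/
theorem near {Y : Subgroup Γ} {u : Γ} (hu : u ∈ G) (hn : u ∉ H) (h1 : Y ≤ H) (h2 : ∀ y ∈ Y, u * y = y * u) :
    Nat.card Y ∣ m :=
  c.card_dvd_m hu hn h1 fun y hy => mem_cj.2 (by rw [mul_assoc, ← h2 y hy, inv_mul_cancel_left]; exact h1 hy)

/-- **far points** : `m` divides the order of every finite group in which a two point stabiliser embeds -/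
theorem far {X : Type*} [Group X] {g : Γ} (hg : g ∈ G) (hn : g ∉ H) (f : ↥(H ⊓ cj g H) →* X)
    (hf : Function.Injective f) : m ∣ Nat.card X := by
  rw [← c.card_inf hg hn]
  exact Subgroup.card_dvd_of_injective f hf

theorem d_mul : Nat.card H / m * m = Nat.card H := by
  have := c.half.d_mul
  rwa [c.card_H] at this

variable [Finite Γ]

theorem d_dvd : Nat.card H / m ∣ H.relIndex G - 1 := by
  have := c.half.d_dvd
  rwa [c.card_H] at this

theorem exists_index_eq : ∃ k, 2 ≤ k ∧ H.relIndex G = k * (Nat.card H / m) + 1 := by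
  have := c.half.exists_index_eq
  rwa [c.card_H] at this

theorem not_dvd_d {s : ℕ} (hs : s.Prime) (h : s ∣ H.relIndex G) : ¬ s ∣ Nat.card H / m := by
  have := c.half.not_dvd_d hs h
  rwa [c.card_H] at this

theorem relIndex_dvd_d₂ {M B : Subgroup Γ} (hM : M ≤ H) (hMn : ∀ a ∈ H, ∀ x ∈ M, a * x * a⁻¹ ∈ M)
    (hB : B ≤ M) (hBn : ∀ a ∈ M, ∀ x ∈ B, a * x * a⁻¹ ∈ B) {g : Γ} (hg : g ∈ G) :
    (cj g H).relIndex B ∣ Nat.card H / m := by
  have h1 := c.half.relIndex_dvd_d₂ (M := M.subgroupOf G) (B := B.subgroupOf G) (fun _ hx => hM hx)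
    (fun a ha x hx => hMn a ha x hx) (fun _ hx => hB hx) (fun a ha x hx => hBn a ha x hx) ⟨g, hg⟩
  rwa [c.card_H, cj_sub, Subgroup.relIndex_subgroupOf (hB.trans (hM.trans c.le))] at h1

/-- **UNI** -/
theorem uni {s : ℕ} [Fact s.Prime] (hs : ¬ s ∣ Nat.card H / m) {M B Y : Subgroup Γ} (hM : M ≤ H)
    (hMn : ∀ a ∈ H, ∀ x ∈ M, a * x * a⁻¹ ∈ M) (hB : B ≤ M) (hBn : ∀ a ∈ M, ∀ x ∈ B, a * x * a⁻¹ ∈ B)
    (hY : IsPGroup s Y) (hYB : Y ≤ B) {g : Γ} (hg : g ∈ G) : ∃ b ∈ B, cj b Y ≤ cj g H :=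
  exists_cj_le_of_relIndex (fun h => hs (h.trans (c.relIndex_dvd_d₂ hM hMn hB hBn hg))) hY hYB

/-- **SYL** -/
theorem syl {s : ℕ} [Fact s.Prime] (hs : ¬ s ∣ Nat.card H / m) {Y : Subgroup Γ} (hY : IsPGroup s Y) (hYH : Y ≤ H)
    {g : Γ} (hg : g ∈ G) : ∃ b ∈ H, cj b Y ≤ cj g H :=
  have h : ∀ a ∈ H, ∀ x ∈ H, a * x * a⁻¹ ∈ H := fun _ ha _ hx => mul_mem (mul_mem ha hx) (inv_mem ha)
  c.uni hs le_rfl h le_rfl h hY hYH hg

/-- a normal `s`-subgroup of `H` is trivial unless `s ∣ d` -/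
theorem eq_bot_of_isPGroup {s : ℕ} [Fact s.Prime] (hs : ¬ s ∣ Nat.card H / m) {N : Subgroup Γ} (hN : N ≤ H)
    (hn : ∀ a ∈ H, ∀ x ∈ N, a * x * a⁻¹ ∈ N) (hp : IsPGroup s N) : N = ⊥ := by
  by_contra h0
  refine hs ?_
  rw [← c.card_H]
  refine c.half.dvd_d_of_normal (N := N.subgroupOf G) (fun e => h0 (eq_bot_iff.2 fun x hx => ?_)) (fun _ hx => hN hx)
    (le_normalizer_of_conj fun a ha x hx => hn a ha x hx) (hp.comap_of_injective G.subtype G.subtype_injective)
  have h1 : (⟨x, c.le (hN hx)⟩ : G) ∈ N.subgroupOf G := hx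
  rw [e] at h1
  exact congrArg Subtype.val (Subgroup.mem_bot.1 h1)

/-- a non-trivial subgroup of `H` moves some point -/
theorem exists_not_le {N : Subgroup Γ} (h0 : N ≠ ⊥) (hN : N ≤ H) : ∃ g ∈ G, g ∉ H ∧ ¬ N ≤ cj g H := by
  obtain ⟨g, h1, h2⟩ := c.half.exists_not_le (N := N.subgroupOf G) (fun e => h0 (eq_bot_iff.2 fun x hx => by
    have h1 : (⟨x, c.le (hN hx)⟩ : G) ∈ N.subgroupOf G := hx
    rw [e] at h1
    exact congrArg Subtype.val (Subgroup.mem_bot.1 h1))) fun _ hx => hN hx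
  refine ⟨g, g.2, h1, fun h => h2 ?_⟩
  rw [cj_sub]
  exact fun _ hx => h hx

/-- the normaliser in `G` of a non-trivial normal subgroup of `H` is `H` -/
theorem mem_of_norm {N : Subgroup Γ} (h0 : N ≠ ⊥) (hN : N ≤ H) (hn : ∀ a ∈ H, ∀ x ∈ N, a * x * a⁻¹ ∈ N) {g : Γ}
    (hg : g ∈ G) (h : ∀ x ∈ N, g * x * g⁻¹ ∈ N) : g ∈ H := by
  have h1 := c.max (M := G ⊓ Subgroup.normalizer (N : Set Γ)) (le_inf c.le (le_normalizer_of_conj hn)) inf_le_left
    fun h2 => by
      obtain ⟨a, ha, -, h3⟩ := c.exists_not_le h0 hN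
      refine h3 fun x hx => mem_cj.2 (hN ?_)
      simpa using (Subgroup.mem_normalizer_iff.1 (h2 (inv_mem ha)).2 x).1 hx
  rw [← h1]
  refine ⟨hg, Subgroup.mem_normalizer_fintype fun x hx => h x hx⟩

/-- the exponent of an abelian normal subgroup of `H` divides `d` -/
theorem orderOf_dvd_d {N : Subgroup Γ} (hN : N ≤ H) (hn : ∀ a ∈ H, ∀ x ∈ N, a * x * a⁻¹ ∈ N)
    (hc : ∀ a ∈ N, ∀ b ∈ N, a * b = b * a) {x : Γ} (hx : x ∈ N) : orderOf x ∣ Nat.card H / m := by
  have h1 := c.half.orderOf_dvd_d (N := N.subgroupOf G) (fun _ hx => hN hx)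
    (le_normalizer_of_conj fun a ha x hx => hn a ha x hx) (fun a ha b hb => Subtype.ext (hc a ha b hb))
    (x := ⟨x, c.le (hN hx)⟩) hx
  rwa [c.card_H, Subgroup.orderOf_mk] at h1

/-- **product trick** : `L` has index at most `j` in `H ⊓ g H g⁻¹` and fixes `g₁ H ≠ H` and `g₂ H`; then the orbit of
`g₂ H` under the stabiliser of `H` and `g₁ H` has at most `j` points -/
theorem product {L : Subgroup Γ} {g₁ g₂ g : Γ} {j : ℕ} (h₁ : g₁ ∈ G) (hg₁ : g₁ ∉ H) (h : g ∈ G) (hg : g ∉ H)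
    (h0 : L ≤ H ⊓ cj g H) (h1 : L ≤ cj g₁ H) (h2 : L ≤ cj g₂ H) (hj : L.relIndex (H ⊓ cj g H) ≤ j) :
    (cj g₂ H).relIndex (H ⊓ cj g₁ H) ≤ j := by
  have e1 : L.relIndex (H ⊓ cj g H) * Nat.card L = m := by
    rw [← c.card_inf h hg, ← card_sub h0]
    exact Subgroup.index_mul_card _
  have e2 : (cj g₂ H).relIndex (H ⊓ cj g₁ H) * Nat.card ((cj g₂ H).subgroupOf (H ⊓ cj g₁ H)) = m := by
    rw [← c.card_inf h₁ hg₁]
    exact Subgroup.index_mul_card _
  have h3 : L ≤ H ⊓ cj g₁ H := le_inf (h0.trans inf_le_left) h1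
  have e3 : Nat.card L ≤ Nat.card ((cj g₂ H).subgroupOf (H ⊓ cj g₁ H)) := by
    rw [← card_sub h3]
    exact Subgroup.card_le_of_le fun _ hx => h2 hx
  have e4 : 0 < Nat.card L := Nat.card_pos
  refine Nat.le_of_mul_le_mul_right ?_ e4
  calc _ ≤ (cj g₂ H).relIndex (H ⊓ cj g₁ H) * Nat.card ((cj g₂ H).subgroupOf (H ⊓ cj g₁ H)) :=
        Nat.mul_le_mul_left _ e3
    _ = L.relIndex (H ⊓ cj g H) * Nat.card L := by rw [e1, e2]
    _ ≤ _ := Nat.mul_le_mul_right _ hj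

end In

end Cfsg.Agent.TH
end

-- part: TH/Sv/Defs
section
set_option linter.all false

/-!
# S3541: the numerical sieve, interface (captain helper73)

`N = |T|`, `a = |H ⊓ T|`, `o = |G : T|`, `d` the subdegree; `h = a o = |H|`, `n = N / a` the degree, `m = h / d`.
`cG`, `cA` are lower bounds for the `T`-classes of the non-trivial elements of `H`, of `H ⊓ T`; `cS s` is a lower bound for
the index in `T` of the normalisers of the non-trivial `s`-subgroups of `H` (any of them may be `0`; all of them may be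
the least index of a proper subgroup of `T`).
-/

set_option autoImplicit false

namespace Cfsg.Agent.TH.Sv

/-- the Gaussian binomial coefficient: a group of order `s ^ b` has at most `gb s b a` subgroups of order `s ^ a` -/
def gb (s : ℕ) : ℕ → ℕ → ℕ
  | _, 0 => 1
  | 0, _ + 1 => 0
  | b + 1, a + 1 => gb s b a + s ^ (a + 1) * gb s b (a + 1)

/-- `ν s` is a possible number of Sylow `s`-subgroups of a group of order `h` -/
def SylNum (h : ℕ) (ν : ℕ → ℕ) : Prop := ∀ s, s.Prime → ν s ∣ h / s ^ h.factorization s ∧ ν s % s = 1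

/-- the necessary numerical conditions -/
structure Nec (N a o d cG cA : ℕ) (cS : ℕ → ℕ) : Prop where
  a_dvd : a ∣ N
  d_dvd : d ∣ a * o
  d_dvd' : d ∣ N / a - 1
  two_le : 2 ≤ d
  two_mul : 2 * d ≤ N / a - 1
  m_le : 2 ≤ a * o / d
  gcd : Nat.gcd a d ≠ 1
  even : 2 ∣ N / a * d
  prime_le : ∀ s, s.Prime → s ∣ a * o → s ≤ d
  sigG : (a * o / d - 1) * cG ≤ (a * o - 1) ^ 2
  sigA : (a / Nat.gcd a d - 1) * cA ≤ (a - 1) ^ 2
  sigA' : (a * o / d / Nat.gcd (a * o / d) o - 1) * cA ≤ (a - 1) ^ 2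
  sylA : ∃ ν, SylNum a ν ∧ ∀ s, s.Prime → s ∣ a → ¬ s ∣ d → cS s ≤ ν s * min (ν s) (Nat.gcd a d)
  lin : ∃ (ν : ℕ → ℕ) (r : ℕ), SylNum (a * o) ν ∧
    (∀ s, s.Prime → s ∣ a * o → ¬ s ∣ d → cS s ≤ ν s * min (ν s) d ∧ N / a - 1 ≤ d * (r - 1) ∧
      r ≤ d * ∏ t ∈ (a * o / d).primeFactors.erase s, gb t ((a * o).factorization t) ((a * o / d).factorization t) * ν t) ∧
    r ≤ ∏ t ∈ (a * o / d).primeFactors, gb t ((a * o).factorization t) ((a * o / d).factorization t) * ν t ∧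
    N / a - 1 ≤ r * (r - 1)

/-- [SV] the conditions hold in every example -/
def BoxNec : Prop := ∀ (G : Type) [Group G] [Finite G] (T H : Subgroup G) (m cG cA : ℕ) (cS : ℕ → ℕ), AS T → Half H m →
  (∀ x ∈ H, x ≠ 1 → cG ≤ (Subgroup.centralizer {x}).relIndex T) →
  (∀ x ∈ H ⊓ T, x ≠ 1 → cA ≤ (Subgroup.centralizer {x}).relIndex T) →
  (∀ s, s.Prime → ∀ P : Subgroup G, P ≤ H → P ≠ ⊥ → IsPGroup s P → cS s ≤ (Subgroup.normalizer (P : Set G)).relIndex T) →
  Nec (Nat.card T) (Nat.card ↥(H ⊓ T)) T.index (Nat.card H / m) cG cA cS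

/-- [SV-El] an `s`-element `x` of `B ⊴ M ⊴ H`, `s ∤ d` : `|x^T| ≤ min (gcd(|B|, d), |x^B|) |x^T ∩ H|` -/
def BoxEl : Prop := ∀ (G : Type) [Group G] [Finite G] (T H M B : Subgroup G) (m s k : ℕ) (x : G), AS T → Half H m →
  s.Prime → ¬ s ∣ Nat.card H / m → M ≤ H → (∀ a ∈ H, ∀ y ∈ M, a * y * a⁻¹ ∈ M) → B ≤ M →
  (∀ a ∈ M, ∀ y ∈ B, a * y * a⁻¹ ∈ B) → x ∈ B → orderOf x = s ^ k →
  (Subgroup.centralizer {x}).relIndex T ≤
    min (Nat.gcd (Nat.card B) (Nat.card H / m)) ((Subgroup.centralizer {x}).relIndex B) * (clsIn T H x).ncard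

/-- [SV-E] the socle `N` of `H ⊓ T` : for every other point the index `e` of its stabiliser in `N` satisfies
`1 < e`, `e ∣ d`, `d ∣ e |H : N|` -/
def BoxE : Prop := AllK → ∀ (G : Type) [Group G] [Finite G] (T H N : Subgroup G) (m : ℕ), AS T → Half H m → Sim T H N →
  ∀ g, g ∉ H → 1 < (cj g H).relIndex N ∧ (cj g H).relIndex N ∣ Nat.card H / m ∧
    Nat.card H / m ∣ (cj g H).relIndex N * N.relIndex H

/-- [SV-Cnt] if the stabiliser in `N ⊴ H` of every other point determines its stabiliser in `H` (for instance as its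
normaliser), the degree is at most the square of the number of these subgroups of `N` -/
def BoxCnt : Prop := ∀ (G : Type) [Group G] [Finite G] (H N : Subgroup G) (m : ℕ) (𝓤 : Set (Subgroup G)), Half H m → N ≤ H →
  (∀ a ∈ H, ∀ y ∈ N, a * y * a⁻¹ ∈ N) → (∀ g, g ∉ H → N ⊓ cj g H ∈ 𝓤) →
  (∀ U ∈ 𝓤, Nat.card ↥(H ⊓ Subgroup.normalizer (U : Set G)) ≤ m) → H.index ≤ 𝓤.ncard ^ 2

/-- [SV-Lin2] small `H ⊓ T` : most two point stabilisers meet `T` trivially -/
def BoxLin2 : Prop := ∀ (G : Type) [Group G] [Finite G] (T H : Subgroup G) (m c g : ℕ), AS T → Half H m →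
  (∀ x ∈ H ⊓ T, x ≠ 1 → c ≤ (Subgroup.centralizer {x}).relIndex T) → 4 * Nat.card ↥(H ⊓ T) ^ 2 ≤ c →
  (∀ K : Subgroup G, K ⊓ T = ⊥ → ∃ s : Fin g → G, Subgroup.closure (Set.range s) = K) →
  Nat.card ↥(H ⊓ T) ∣ Nat.card H / m ∧ m ∣ T.index ∧ H.index ≤ 3 * Nat.card H ^ (2 * g)

/-- the conjugates of `Y` inside `H` -/
def cjIn {G : Type*} [Group G] (H Y : Subgroup G) : Set (Subgroup G) := {Z | Z ≤ H ∧ ∃ g, Z = cj g Y}

/-- [SV-Sq] `W` is a set of pairs of conjugates of `Y` in `H` without a common fixed point other than the base point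
(use with `index_sub_one_le`) -/
def BoxSq : Prop := ∀ (G : Type) [Group G] [Finite G] (H Y : Subgroup G) (W : Set (Subgroup G × Subgroup G)),
  Subgroup.normalizer (H : Set G) = H →
  (∀ w ∈ W, w.1 ∈ cjIn H Y ∧ w.2 ∈ cjIn H Y ∧ ∀ g, w.1 ≤ cj g H → w.2 ≤ cj g H → g ∈ H) →
  Nat.card (MulAction.fixedPoints Y (G ⧸ H)) ^ 2 * W.ncard ≤ H.index * (cjIn H Y).ncard ^ 2

end Cfsg.Agent.TH.Sv
end

-- part: TH/Sv/ClDat
section
set_option linter.all false

/-!
# S3541: the numerical data of a classical socle (captain helper73)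

Families: `0 = L`, `1 = U`, `2 = Sp`, `3 = O` (odd dimension), `4 = O⁺`, `5 = O⁻`; `n` is the dimension of the natural module.
-/

set_option autoImplicit false

namespace Cfsg.Agent.TH.Sv

/-- `∏_{i = a}^{a + k - 1} f i` -/
def prd (f : ℕ → ℕ) (a : ℕ) : ℕ → ℕ
  | 0 => 1
  | k + 1 => prd f a k * f (a + k)

/-- `q ^ i - (-1) ^ i` -/
def um (q i : ℕ) : ℕ := if i % 2 = 0 then q ^ i - 1 else q ^ i + 1

/-- the order -/
def ordCl (t n q : ℕ) : ℕ :=
  if t = 0 then q ^ (n * (n - 1) / 2) * prd (fun i => q ^ i - 1) 2 (n - 1) / Nat.gcd n (q - 1)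
  else if t = 1 then q ^ (n * (n - 1) / 2) * prd (um q) 2 (n - 1) / Nat.gcd n (q + 1)
  else if t ≤ 3 then q ^ (n / 2 * (n / 2)) * prd (fun i => q ^ (2 * i) - 1) 1 (n / 2) / Nat.gcd 2 (q - 1)
  else if t = 4 then
    q ^ (n / 2 * (n / 2 - 1)) * (q ^ (n / 2) - 1) * prd (fun i => q ^ (2 * i) - 1) 1 (n / 2 - 1) / Nat.gcd 4 (q ^ (n / 2) - 1)
  else q ^ (n / 2 * (n / 2 - 1)) * (q ^ (n / 2) + 1) * prd (fun i => q ^ (2 * i) - 1) 1 (n / 2 - 1) / Nat.gcd 4 (q ^ (n / 2) + 1)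

/-- the order of the outer automorphism group, `q = p ^ f` -/
def outCl (t n p f : ℕ) : ℕ :=
  (if t = 0 then 2 * Nat.gcd n (p ^ f - 1)
  else if t = 1 then 2 * Nat.gcd n (p ^ f + 1)
  else if t = 2 then (if n = 4 ∧ p = 2 then 2 else 1) * Nat.gcd 2 (p ^ f - 1)
  else if t = 3 then 2
  else if t = 4 then (if n = 8 then 6 else 2) * Nat.gcd 4 ((p ^ f) ^ (n / 2) - 1)
  else 2 * Nat.gcd 4 ((p ^ f) ^ (n / 2) + 1)) * f

/-- a lower bound for the index of a proper subgroup (S2140 - S2153, `H77.Final.lower`, `H500.AS.plus_three_index_ge`) -/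
def lminCl (t n q : ℕ) : ℕ :=
  if t = 0 then (q ^ n - 1) / (q - 1)
  else if t = 1 then
    (if n = 3 then (if q = 5 then 50 else q ^ 3 + 1) else if n = 4 then (q + 1) * (q ^ 3 + 1)
    else if q = 2 ∧ n % 2 = 0 then 2 ^ (n - 1) * (2 ^ n - 1) / 3 else um q n * um q (n - 1) / (q ^ 2 - 1))
  else if t = 2 then
    (if n = 4 ∧ q = 3 then 27 else if q = 2 then 2 ^ (n / 2 - 1) * (2 ^ (n / 2) - 1) else (q ^ n - 1) / (q - 1))
  else if t = 3 then (if q = 3 then 3 ^ (n / 2) * (3 ^ (n / 2) - 1) / 2 else (q ^ (n - 1) - 1) / (q - 1))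
  else if t = 4 then
    (if q = 2 then 2 ^ (n / 2 - 1) * (2 ^ (n / 2) - 1) else if q = 3 then 3 ^ (n / 2 - 1) * (3 ^ (n / 2 - 1) - 1) / 2
    else (q ^ (n / 2) - 1) * (q ^ (n / 2 - 1) + 1) / (q - 1))
  else (q ^ (n / 2) + 1) * (q ^ (n / 2 - 1) - 1) / (q - 1)

/-- the ranges (without `L₂(q)`, `L₃(2)`, `L₄(2)`) -/
def validCl (t n q : ℕ) : Bool :=
  if t = 0 then decide (3 ≤ n) && !(decide (n ≤ 4) && decide (q = 2))
  else if t = 1 then decide (3 ≤ n) && !(decide (n = 3) && decide (q = 2))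
  else if t = 2 then decide (4 ≤ n) && decide (n % 2 = 0) && !(decide (n = 4) && decide (q = 2))
  else if t = 3 then decide (7 ≤ n) && decide (n % 2 = 1) && decide (q % 2 = 1)
  else decide (t ≤ 5) && decide (8 ≤ n) && decide (n % 2 = 0)

/-- `T` is a quotient of a subgroup of `GL_n(F)` by its scalars, `|F| = k`, `char F = p` -/
def ProjRep (p k n : ℕ) (T : Type) [Group T] : Prop :=
  ∃ (F : Type) (_ : Field F) (_ : Fintype F) (_ : CharP F p) (S : Subgroup (GL (Fin n) F)) (π : S →* T),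
    Fintype.card F = k ∧ Function.Surjective π ∧ ∀ x : S, π x = 1 ↔ (x : GL (Fin n) F) ∈ Cfsg.Geo.scalars (Fin n) F

/-- the model -/
def IsoCl (p t n q : ℕ) (T : Type) [Group T] : Prop :=
  ∃ (F : Type) (_ : Field F) (_ : Fintype F) (_ : CharP F p),
    (t = 0 ∧ Fintype.card F = q ∧ Nonempty (T ≃* Matrix.ProjectiveSpecialLinearGroup (Fin n) F)) ∨
    (t = 1 ∧ Fintype.card F = q ^ 2 ∧ Nonempty (T ≃* PSU n F q)) ∨
    (t = 2 ∧ Fintype.card F = q ∧ Nonempty (T ≃* PSp (n / 2) F)) ∨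
    (t = 3 ∧ Fintype.card F = q ∧ Nonempty (T ≃* POmega F (quadFormOdd (n / 2) F))) ∨
    (t = 4 ∧ Fintype.card F = q ∧ Nonempty (T ≃* POmega F (quadFormPlus (n / 2) F))) ∨
    (t = 5 ∧ Fintype.card F = q ∧ ∃ a b : F, (∀ z₁ z₂ : F, z₁ ^ 2 + a * z₁ * z₂ + b * z₂ ^ 2 = 0 → z₁ = 0 ∧ z₂ = 0) ∧
      Nonempty (T ≃* POmega F (quadFormMinus (n / 2 - 1) F a b)))

/-- the data of a classical socle -/
structure ClDat (p : ℕ) {G : Type} [Group G] (T : Subgroup G) (t n f : ℕ) : Prop where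
  pos : 0 < f
  valid : validCl t n (p ^ f) = true
  iso : IsoCl p t n (p ^ f) ↥T
  card : Nat.card T = ordCl t n (p ^ f)
  out : T.index ∣ outCl t n p f
  lmin : ∀ M : Subgroup T, M ≠ ⊤ → lminCl t n (p ^ f) ≤ M.index
  rep : ProjRep p (if t = 1 then (p ^ f) ^ 2 else p ^ f) n ↥T

/-- [SV-ClDat] -/
def BoxClDat : Prop := ∀ (G : Type) [Group G] [Finite G] (T H : Subgroup G) (m p : ℕ), LieCtx T H m p → IsCl p ↥T →
  ∃ t n f, ClDat p T t n f

end Cfsg.Agent.TH.Sv
end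

-- part: TH/Tri
section
set_option linter.all false
open scoped Cfsg.Agent.FastGrp

-- part: TH/BN
section
/-!
# S3541: components with a split (B, N)-pair of characteristic `p` (captain helper73)

`BoxBN` is the form of `BoxOwn` which is used for the subsystem subgroups of the exceptional groups.
-/

set_option autoImplicit false

namespace Cfsg.Agent.TH

open Own

/-- `H` has a component whose simple quotient has a split (B, N)-pair of characteristic `p` -/
def HasBN (p : ℕ) {G : Type*} [Group G] (H : Subgroup G) : Prop :=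
  ∃ E : Subgroup ↥H, Cfsg.IsComponent E ∧ FixBN.HasSplit p (↥E ⧸ Subgroup.center ↥E)

/-- [BN] no such component -/
def BoxBN : Prop := AllK →
  ∀ (G : Type) [Group G] [Finite G] (T H : Subgroup G) (m p : ℕ), LieCtx T H m p → HasBN p H → False

/-- [BLD, general form] -/
def BoxBldBN : Prop :=
  ∀ (G : Type) [Group G] [Finite G] (T H : Subgroup G) (m p : ℕ), LieCtx T H m p → HasBN p H →
    ∃ (I ι : Type) (_ : Finite I) (_ : Finite ι) (S : US G p I) (C : Comps S ι), S.toPS.At T ((1 : G) : G ⧸ H) ∧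
      ∀ l, FixBN.HasSplit p (↥(C.E l) ⧸ Subgroup.center ↥(C.E l)) ∧ ¬ p ∣ Nat.card (Zc (C.E l))

/-- [R1ID] a split (B, N)-pair of rank one and characteristic `p` -/
def BoxR1Id : Prop := AllK →
  ∀ (G : Type) [Group G] [Finite G] (p : ℕ) (E U : Subgroup G), p.Prime → Cfsg.IsQuasisimple ↥E →
    FixBN.HasSplit p (↥E ⧸ Subgroup.center ↥E) → ¬ p ∣ Nat.card (Zc E) → U ≤ E → IsPGroup p U →
    (∀ P : Subgroup G, P ≤ E → IsPGroup p P → ∃ R ∈ Cjs E U, P ≤ R) → Spl E U →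
    Cfsg.IsLieTypeChar p (↥E ⧸ Subgroup.center ↥E)

theorem boxBN_of (h1 : BoxAmb) (h2 : BoxBldBN) (h2' : BoxR1Id) (h3 : BoxR1D) (h4 : BoxFold) (h5 : BoxOne) (h6 : BoxTwo)
    (h7 : BoxRk1) : BoxBN := by
  intro hK G _ _ T H m p c ho
  have hA := h1 G T H m p c
  obtain ⟨I, ι, _, _, S, C, hS, hE⟩ := h2 G T H m p c ho
  obtain ⟨I', _, F, κ, hF, hκ⟩ := h4 G (G ⧸ H) T p _ I ι S C c.prime hA.nrm hS
  have hI := h6 G (G ⧸ H) T p m _ I ι I' S C F κ hA hS hF hκ (h5 G (G ⧸ H) T p m _ I' F hA hF)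
  obtain ⟨i, -⟩ := S.endn
  let _ : Unique I := uniqueOfSubsingleton i
  have hι : ∀ l, l = C.c i := fun l => by
    obtain ⟨k, rfl⟩ := C.surj l
    rw [Subsingleton.elim k i]
  have h8 : S.D Set.univ = C.E (C.c i) := by
    rw [C.top]
    exact le_antisymm (iSup_le fun l => by rw [hι l]) (le_iSup C.E _)
  have h9 : ({i} : Set I) = Set.univ := Set.eq_univ_of_forall fun k => Subsingleton.elim k i
  refine h7 G (G ⧸ H) T p m _ I I' S F κ hA hS hF hκ (h8 ▸ C.quasi _) ?_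
  have a1 : S.X ≤ C.E (C.c i) := by rw [← h8, ← S.D_empty]; exact S.mono (Set.empty_subset _)
  have a2 : ∀ P : Subgroup G, P ≤ C.E (C.c i) → IsPGroup p P → ∃ R ∈ Cjs (C.E (C.c i)) S.X, P ≤ R := by
    rw [← h8]; exact S.syl
  have a3 : Spl (C.E (C.c i)) S.X := by rw [← h8, ← h9]; exact S.split i
  have h10 := h3 G p (C.E (C.c i)) S.X c.prime (C.quasi _)
    (h2' hK G p _ S.X c.prime (C.quasi _) (hE _).1 (hE _).2 a1 S.isP a2 a3) (hE _).2 a1 S.isP a2 a3
  rwa [h8]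

end Cfsg.Agent.TH
end

-- part: TH/Tri
section
/-!
# S3541: the abstract trichotomy for the point stabiliser (captain helper73)

`H ⊓ T` contains an elementary abelian minimal normal subgroup of `H` (`DS.Loc`), or its generalised Fitting subgroup is
simple (`Sim`), or a product of at least two simple groups (`Mul`).
-/

set_option autoImplicit false

namespace Cfsg.Agent.TH

/-- `𝓢` is an `H`-invariant set of at least two commuting simple subgroups of `H ⊓ T` with trivial centraliser in `T` -/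
structure Mul {G : Type*} [Group G] (T H : Subgroup G) (𝓢 : Set (Subgroup G)) : Prop where
  le : ∀ S ∈ 𝓢, S ≤ H ⊓ T
  simple : ∀ S ∈ 𝓢, IsSimpleGroup S
  nonab : ∀ S ∈ 𝓢, ¬ IsMulCommutative S
  comm : ∀ S ∈ 𝓢, ∀ S' ∈ 𝓢, S ≠ S' → ∀ x ∈ S, ∀ y ∈ S', x * y = y * x
  perm : ∀ h ∈ H, ∀ S ∈ 𝓢, cj h S ∈ 𝓢
  two : 𝓢.Nontrivial
  cent : ∀ t ∈ T, (∀ S ∈ 𝓢, ∀ x ∈ S, t * x = x * t) → t = 1

/-- [TRI] -/
def BoxTri : Prop := ∀ (G : Type) [Group G] [Finite G] (T H : Subgroup G) (m : ℕ), AS T → Half H m →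
  (∃ E r, DS.Loc T H E r) ∨ (∃ N, Sim T H N) ∨ ∃ 𝓢, Mul T H 𝓢

/-- the standing hypotheses after `BoxOwn` and `BoxBN` -/
structure NCtx {G : Type} [Group G] (T H : Subgroup G) (m p : ℕ) : Prop extends LieCtx T H m p where
  allK : AllK
  nown : ¬ HasOwn p H
  nbn : ¬ HasBN p H

/-- families of groups with a characteristic -/
abbrev PFam : Type 1 := ℕ → ∀ (T : Type) [Group T], Prop

/-- no example with socle in the family `P` -/
def NonBN (P : PFam) : Prop :=
  ∀ (G : Type) [Group G] [Finite G] (T H : Subgroup G) (m p : ℕ), NCtx T H m p → P p ↥T → False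

/-- no local example -/
def NoAb (P : PFam) : Prop :=
  ∀ (G : Type) [Group G] [Finite G] (T H E : Subgroup G) (m p r : ℕ), NCtx T H m p → DS.Loc T H E r → r ≠ p → P p ↥T → False

/-- no example with `H ⊓ T` almost simple -/
def NoSi (P : PFam) : Prop :=
  ∀ (G : Type) [Group G] [Finite G] (T H N : Subgroup G) (m p : ℕ), NCtx T H m p → Sim T H N → P p ↥T → False

/-- no example with several simple factors -/
def NoMul (P : PFam) : Prop :=
  ∀ (G : Type) [Group G] [Finite G] (T H : Subgroup G) (𝓢 : Set (Subgroup G)) (m p : ℕ), NCtx T H m p → Mul T H 𝓢 →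
    P p ↥T → False

theorem nonOwn_of_nonBN {P : PFam} (hB : BoxBN) (h : NonBN P) : NonOwn P := fun hK G _ _ T H m p c ho hP =>
  h G T H m p ⟨c, hK, ho, hB hK G T H m p c⟩ hP

/-- the prime of a local example is not the characteristic -/
theorem LieCtx.ne_of_loc {G : Type} [Group G] [Finite G] {T H E : Subgroup G} {m p r : ℕ} (c : LieCtx T H m p)
    (h : DS.Loc T H E r) : r ≠ p := by
  rintro rfl
  have := Fact.mk c.prime
  have h1 : E ≤ H := h.norm ▸ Subgroup.le_normalizer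
  refine h.ne_bot (c.half.eq_bot_of_isPGroup c.dvd_index h1 h.norm.ge fun x => ⟨1, Subtype.ext ?_⟩)
  simpa using h.pow x x.2

theorem nonBN_of {P : PFam} (ht : BoxTri) (h1 : NoAb P) (h2 : NoSi P) (h3 : NoMul P) : NonBN P := by
  intro G _ _ T H m p c hP
  rcases ht G T H m c.as c.half with ⟨E, r, h⟩ | ⟨N, h⟩ | ⟨𝓢, h⟩
  · exact h1 G T H E m p r c h (c.toLieCtx.ne_of_loc h) hP
  · exact h2 G T H N m p c h hP
  · exact h3 G T H 𝓢 m p c h hP

end Cfsg.Agent.TH
end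
end

-- part: TH/Sv/Nec
section
prune_inst 0x212000005822100000180012100028462600019000230000f0a00542098fdf20890027006e001d00000822c000300000005400d0000000000000000000000000002850043334ac00300010803003180c00000000000000000000000000041004000000000
set_option linter.all false
open scoped Cfsg.Agent.FastGrp

-- part: TH/Sv/Chk
section
/-!
# S3541: the numerical sieve, the checker (helper74)

* `NecX` : `Nec` with the numbers of Sylow subgroups as parameters;
* `test` : a Boolean test which holds under `NecX`;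
* `sieveG` : no triple `(a, o, d)` passes; `sieveG_sound`.

All functions are written with the recursors and evaluate fast under `decide +kernel`.
-/

set_option autoImplicit false

namespace Cfsg.Agent.TH.Sv

/-- `Nec` with the numbers `νA s`, `νH s` of Sylow `s`-subgroups of `H ⊓ T` and of `H` as parameters -/
structure NecX (N a o d cG cA : ℕ) (cS νA νH : ℕ → ℕ) : Prop where
  a_dvd : a ∣ N
  d_dvd : d ∣ a * o
  d_dvd' : d ∣ N / a - 1
  two_le : 2 ≤ d
  two_mul : 2 * d ≤ N / a - 1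
  m_le : 2 ≤ a * o / d
  gcd : Nat.gcd a d ≠ 1
  even : 2 ∣ N / a * d
  prime_le : ∀ s, s.Prime → s ∣ a * o → s ≤ d
  sigG : (a * o / d - 1) * cG ≤ (a * o - 1) ^ 2
  sigA : (a / Nat.gcd a d - 1) * cA ≤ (a - 1) ^ 2
  sigA' : (a * o / d / Nat.gcd (a * o / d) o - 1) * cA ≤ (a - 1) ^ 2
  numA : SylNum a νA
  numH : SylNum (a * o) νH
  sylA : ∀ s, s.Prime → s ∣ a → ¬ s ∣ d → cS s ≤ νA s * min (νA s) (Nat.gcd a d)
  lin : ∃ r : ℕ,
    (∀ s, s.Prime → s ∣ a * o → ¬ s ∣ d → cS s ≤ νH s * min (νH s) d ∧ N / a - 1 ≤ d * (r - 1) ∧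
      r ≤ d * ∏ t ∈ (a * o / d).primeFactors.erase s, gb t ((a * o).factorization t) ((a * o / d).factorization t) * νH t) ∧
    r ≤ ∏ t ∈ (a * o / d).primeFactors, gb t ((a * o).factorization t) ((a * o / d).factorization t) * νH t ∧
    N / a - 1 ≤ r * (r - 1)

theorem NecX.nec {N a o d cG cA : ℕ} {cS νA νH : ℕ → ℕ} (h : NecX N a o d cG cA cS νA νH) : Nec N a o d cG cA cS :=
  ⟨h.a_dvd, h.d_dvd, h.d_dvd', h.two_le, h.two_mul, h.m_le, h.gcd, h.even, h.prime_le, h.sigG, h.sigA, h.sigA',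
    ⟨νA, h.numA, h.sylA⟩, let ⟨r, hr⟩ := h.lin; ⟨νH, r, h.numH, hr⟩⟩

theorem Nec.necX {N a o d cG cA : ℕ} {cS : ℕ → ℕ} (h : Nec N a o d cG cA cS) : ∃ νA νH, NecX N a o d cG cA cS νA νH :=
  let ⟨νA, h1, h2⟩ := h.sylA
  let ⟨νH, r, h3, h4⟩ := h.lin
  ⟨νA, νH, h.a_dvd, h.d_dvd, h.d_dvd', h.two_le, h.two_mul, h.m_le, h.gcd, h.even, h.prime_le, h.sigG, h.sigA, h.sigA',
    h1, h3, h2, r, h4⟩

/-- [SV-X] the conditions hold with the true numbers of Sylow subgroups -/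
def BoxNecX : Prop := ∀ (G : Type) [Group G] [Finite G] (T H : Subgroup G) (m cG cA : ℕ) (cS : ℕ → ℕ), AS T → Half H m →
  (∀ x ∈ H, x ≠ 1 → cG ≤ (Subgroup.centralizer {x}).relIndex T) →
  (∀ x ∈ H ⊓ T, x ≠ 1 → cA ≤ (Subgroup.centralizer {x}).relIndex T) →
  (∀ s, s.Prime → ∀ P : Subgroup G, P ≤ H → P ≠ ⊥ → IsPGroup s P → cS s ≤ (Subgroup.normalizer (P : Set G)).relIndex T) →
  NecX (Nat.card T) (Nat.card ↥(H ⊓ T)) T.index (Nat.card H / m) cG cA cS
    (fun s => Nat.card (Sylow s ↥(H ⊓ T))) (fun s => Nat.card (Sylow s H))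

theorem boxNec_of_X (h : BoxNecX) : BoxNec := fun G _ _ T H m cG cA cS hT hH h1 h2 h3 =>
  (h G T H m cG cA cS hT hH h1 h2 h3).nec

/-! ### evaluation tools -/

/-- evaluate `n` first -/
def frc {α : Type} (n : ℕ) (f : ℕ → α) : α := Nat.rec (motive := fun _ => α) (f 0) (fun k _ => f (Nat.succ k)) n

theorem frc_eq {α : Type} (n : ℕ) (f : ℕ → α) : frc n f = f n := by cases n <;> rfl

/-- `∀ s ∈ l, f s` -/
def allL (l : List ℕ) (f : ℕ → Bool) : Bool := List.rec (motive := fun _ => Bool) true (fun s _ ih => f s && ih) l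

theorem allL_iff (l : List ℕ) (f : ℕ → Bool) : allL l f = true ↔ ∀ s ∈ l, f s = true := by
  induction l with
  | nil => simp [allL]
  | cons s l ih =>
    rw [show allL (s :: l) f = (f s && allL l f) from rfl, Bool.and_eq_true, ih, List.forall_mem_cons]

/-- `∏ s ∈ l, f s` -/
def prodL (l : List ℕ) (f : ℕ → ℕ) : ℕ := List.rec (motive := fun _ => ℕ) 1 (fun s _ ih => f s * ih) l

theorem prodL_eq (l : List ℕ) (f : ℕ → ℕ) : prodL l f = (l.map f).prod := by
  induction l with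
  | nil => rfl
  | cons s l ih => rw [show prodL (s :: l) f = f s * prodL l f from rfl, ih, List.map_cons, List.prod_cons]

theorem prod_le_list (l : List ℕ) (f : ℕ → ℕ) (hf : ∀ s ∈ l, 1 ≤ f s) (S : Finset ℕ) (hS : ∀ s ∈ S, s ∈ l) :
    ∏ s ∈ S, f s ≤ (l.map f).prod := by
  induction l generalizing S with
  | nil =>
    rw [Finset.eq_empty_of_forall_notMem fun s hs => List.not_mem_nil (hS s hs)]
    simp
  | cons t l ih =>
    have h1 := ih (fun s hs => hf s (List.mem_cons_of_mem _ hs)) (S.erase t) fun s hs =>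
      (List.mem_cons.1 (hS s (Finset.mem_of_mem_erase hs))).resolve_left (Finset.ne_of_mem_erase hs)
    rw [List.map_cons, List.prod_cons]
    by_cases ht : t ∈ S
    · rw [← Finset.mul_prod_erase S f ht]
      exact Nat.mul_le_mul_left _ h1
    · rw [Finset.erase_eq_of_notMem ht] at h1
      exact h1.trans (Nat.le_mul_of_pos_left _ (hf t List.mem_cons_self))

/-- `k (acc * s ^ j)` for all `s ^ j ∣ x` -/
def pwL (s : ℕ) (k : ℕ → Bool) (fuel : ℕ) : ℕ → ℕ → Bool :=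
  Nat.rec (motive := fun _ => ℕ → ℕ → Bool) (fun _ _ => false)
    (fun _ ih x acc => k acc && (bif Nat.beq (x % s) 0 then frc (x / s) fun x' => frc (acc * s) fun acc' => ih x' acc'
      else true)) fuel

theorem pwL_sound (s : ℕ) (k : ℕ → Bool) (fuel x acc : ℕ) (h : pwL s k fuel x acc = true) (j : ℕ) (hj : s ^ j ∣ x) :
    k (acc * s ^ j) = true := by
  induction fuel generalizing x acc j with
  | zero => exact absurd h Bool.false_ne_true
  | succ f ih =>
    have h1 : (k acc && (bif Nat.beq (x % s) 0 then frc (x / s) fun x' => frc (acc * s) fun acc' => pwL s k f x' acc'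
      else true)) = true := h
    rw [Bool.and_eq_true, frc_eq, frc_eq] at h1
    cases j with
    | zero => simpa using h1.1
    | succ j =>
      have h2 : x % s = 0 := Nat.mod_eq_zero_of_dvd ((Dvd.intro_left _ (pow_succ s j).symm).trans hj)
      have h3 := h1.2
      rw [h2] at h3
      have h4 := ih _ _ h3 j (Nat.dvd_div_of_mul_dvd (by rwa [← pow_succ']))
      rwa [mul_assoc, ← pow_succ'] at h4

/-- `f (acc * y)` for all divisors `y` of `x` whose prime factors lie in `ps` -/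
def allDiv (ps : List ℕ) (x : ℕ) (f : ℕ → Bool) : ℕ → Bool :=
  List.rec (motive := fun _ => ℕ → Bool) f (fun s _ ih acc => pwL s ih 5000 x acc) ps

theorem allDiv_sound (ps : List ℕ) (hps : ∀ s ∈ ps, s.Prime) (x : ℕ) (f : ℕ → Bool) (acc : ℕ)
    (h : allDiv ps x f acc = true) (y : ℕ) (hy : y ∣ x) (h0 : y ≠ 0) (hc : ∀ s, s.Prime → s ∣ y → s ∈ ps) :
    f (acc * y) = true := by
  induction ps generalizing acc y with
  | nil =>
    have h1 : y = 1 := by
      by_contra h1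
      obtain ⟨s, hs, h2⟩ := Nat.exists_prime_and_dvd h1
      exact List.not_mem_nil (hc s hs h2)
    rw [h1, mul_one]
    exact h
  | cons s l ih =>
    obtain ⟨j, y', h1, rfl⟩ := Nat.exists_eq_pow_mul_and_not_dvd h0 s (hps s List.mem_cons_self).ne_one
    have h2 := pwL_sound s (allDiv l x f) 5000 x acc h j ((Dvd.intro _ rfl).trans hy)
    rw [← mul_assoc]
    refine ih (fun t ht => hps t (List.mem_cons_of_mem _ ht)) _ h2 y' ((Dvd.intro_left _ rfl).trans hy)
      (right_ne_zero_of_mul h0) fun t ht h3 => ?_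
    exact (List.mem_cons.1 (hc t ht (h3.mul_left _))).resolve_left fun h4 => h1 (h4 ▸ h3)

/-- the `s'`-part of `x` -/
def cop (s x : ℕ) : ℕ := x / Nat.gcd x (s ^ Nat.log2 x)

theorem gcd_pow_log {s x : ℕ} (hs : s.Prime) (hx : x ≠ 0) : Nat.gcd x (s ^ Nat.log2 x) = s ^ x.factorization s := by
  have h1 : x.factorization s ≤ Nat.log2 x := by
    rw [Nat.le_log2 hx]
    exact (Nat.pow_le_pow_left hs.two_le _).trans (Nat.ordProj_le s hx)
  refine Nat.dvd_antisymm ?_ (Nat.dvd_gcd (Nat.ordProj_dvd x s) (pow_dvd_pow s h1))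
  obtain ⟨j, -, hj⟩ := (Nat.dvd_prime_pow hs).1 (Nat.gcd_dvd_right x (s ^ Nat.log2 x))
  rw [hj]
  exact pow_dvd_pow s ((hs.pow_dvd_iff_le_factorization hx).1 (hj ▸ Nat.gcd_dvd_left _ _))

theorem cop_eq {s x : ℕ} (hs : s.Prime) (hx : x ≠ 0) : cop s x = x / s ^ x.factorization s := by
  rw [cop, gcd_pow_log hs hx]

/-- the continuation `k` holds for the list of the prime factors of `x` (trial division from `s` on) -/
def pfK (k : List ℕ → Bool) (fuel : ℕ) : ℕ → ℕ → List ℕ → Bool :=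
  Nat.rec (motive := fun _ => ℕ → ℕ → List ℕ → Bool) (fun _ _ _ => false)
    (fun _ ih s x acc => bif Nat.ble (s * s) x then
        (bif Nat.beq (x % s) 0 then frc (cop s x) fun x' => frc (s + 1) fun s' => ih s' x' (s :: acc)
        else frc (s + 1) fun s' => ih s' x acc)
      else bif Nat.ble x 1 then k acc else k (x :: acc)) fuel

theorem pfK_sound (k : List ℕ → Bool) (fuel s x : ℕ) (acc : List ℕ) (h : pfK k fuel s x acc = true) (hs : 2 ≤ s)
    (hx : x ≠ 0) (hl : ∀ r, r.Prime → r ∣ x → s ≤ r) (hacc : ∀ r ∈ acc, r.Prime) :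
    ∃ ps, k ps = true ∧ (∀ r ∈ ps, r.Prime) ∧ ∀ r, r ∈ acc ∨ r.Prime ∧ r ∣ x → r ∈ ps := by
  induction fuel generalizing s x acc with
  | zero => exact absurd h Bool.false_ne_true
  | succ f ih =>
    have h1 : (bif Nat.ble (s * s) x then
        (bif Nat.beq (x % s) 0 then frc (cop s x) fun x' => frc (s + 1) fun s' => pfK k f s' x' (s :: acc)
        else frc (s + 1) fun s' => pfK k f s' x acc)
      else bif Nat.ble x 1 then k acc else k (x :: acc)) = true := h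
    simp only [frc_eq, Bool.cond_eq_ite, Nat.ble_eq, Nat.beq_eq] at h1
    split_ifs at h1 with h2 h3 h4
    · have h4 : s ∣ x := Nat.dvd_of_mod_eq_zero h3
      have h5 : s.Prime := by
        have h5 := Nat.minFac_prime (show s ≠ 1 by omega)
        have h6 := hl _ h5 ((Nat.minFac_dvd s).trans h4)
        rwa [le_antisymm (Nat.minFac_le (by omega)) h6] at h5
      rw [cop_eq h5 hx] at h1
      obtain ⟨ps, h6, h7, h8⟩ := ih _ _ _ h1 (by omega) (Nat.ordCompl_pos s hx).ne'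
        (fun r hr h6 => lt_of_le_of_ne (hl r hr (h6.trans (Nat.ordCompl_dvd x s))) fun h7 =>
          Nat.not_dvd_ordCompl h5 hx (h7 ▸ h6))
        (List.forall_mem_cons.2 ⟨h5, hacc⟩)
      refine ⟨ps, h6, h7, fun r hr => h8 r ?_⟩
      rcases hr with hr | ⟨hr, h9⟩
      · exact Or.inl (List.mem_cons_of_mem _ hr)
      · rw [← Nat.ordProj_mul_ordCompl_eq_self x s] at h9
        rcases (Nat.Prime.dvd_mul hr).1 h9 with h9 | h9
        · exact Or.inl (((Nat.prime_dvd_prime_iff_eq hr h5).1 (hr.dvd_of_dvd_pow h9)) ▸ List.mem_cons_self)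
        · exact Or.inr ⟨hr, h9⟩
    · exact ih _ _ _ h1 (by omega) hx (fun r hr h6 => lt_of_le_of_ne (hl r hr h6) fun h7 =>
        h3 (Nat.mod_eq_zero_of_dvd (h7 ▸ h6))) hacc
    · refine ⟨acc, h1, hacc, fun r hr => hr.resolve_right fun h5 => ?_⟩
      have h6 := Nat.le_of_dvd (by omega) h5.2
      have := h5.1.two_le
      omega
    · have h5 : x.Prime := by
        by_contra h5
        have h6 := Nat.minFac_sq_le_self (by omega) h5
        have h7 := hl _ (Nat.minFac_prime (by omega)) (Nat.minFac_dvd x)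
        exact h2 ((Nat.mul_le_mul h7 h7).trans (by rwa [← sq]))
      refine ⟨x :: acc, h1, List.forall_mem_cons.2 ⟨h5, hacc⟩, fun r hr => ?_⟩
      rcases hr with hr | ⟨hr, h9⟩
      · exact List.mem_cons_of_mem _ hr
      · exact ((Nat.prime_dvd_prime_iff_eq hr h5).1 h9) ▸ List.mem_cons_self

/-- the continuation `k` holds for the list of the prime factors of `x ≠ 0` -/
def withPrimes (x : ℕ) (k : List ℕ → Bool) : Bool := frc x fun x => Nat.ble 1 x && pfK k 10000000 2 x []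

theorem withPrimes_sound {x : ℕ} {k : List ℕ → Bool} (h : withPrimes x k = true) :
    x ≠ 0 ∧ ∃ ps, k ps = true ∧ (∀ r ∈ ps, r.Prime) ∧ ∀ r, r.Prime → r ∣ x → r ∈ ps := by
  rw [withPrimes, frc_eq, Bool.and_eq_true, Nat.ble_eq] at h
  obtain ⟨ps, h1, h2, h3⟩ := pfK_sound k _ 2 x [] h.2 le_rfl (by omega) (fun r hr _ => hr.two_le) (by simp)
  exact ⟨by omega, ps, h1, h2, fun r hr h4 => h3 r (Or.inr ⟨hr, h4⟩)⟩

/-- the exponent of `s` in `x` -/
def vl (s x : ℕ) : ℕ :=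
  Nat.rec (motive := fun _ => ℕ → ℕ → ℕ) (fun _ j => j)
    (fun _ ih x j => bif Nat.beq (x % s) 0 then frc (x / s) fun x' => frc (j + 1) fun j' => ih x' j' else j)
    (Nat.log2 x) x 0

theorem vl_eq {s x : ℕ} (hs : s.Prime) (hx : x ≠ 0) : vl s x = x.factorization s := by
  have key : ∀ f x j : ℕ, x ≠ 0 → x.factorization s ≤ f → Nat.rec (motive := fun _ => ℕ → ℕ → ℕ) (fun _ j => j)
      (fun _ ih x j => bif Nat.beq (x % s) 0 then frc (x / s) fun x' => frc (j + 1) fun j' => ih x' j' else j)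
      f x j = j + x.factorization s := by
    intro f
    induction f with
    | zero => intro x j _ h; rw [Nat.le_zero.1 h]; rfl
    | succ f ih =>
      intro x j hx h
      simp only [frc_eq, Bool.cond_eq_ite, Nat.beq_eq] at ih ⊢
      split_ifs with h1
      · obtain ⟨y, rfl⟩ := Nat.dvd_of_mod_eq_zero h1
        have hy : y ≠ 0 := right_ne_zero_of_mul hx
        have h2 : (s * y).factorization s = y.factorization s + 1 := by
          rw [Nat.factorization_mul hs.ne_zero hy, Finsupp.add_apply, hs.factorization_self, add_comm]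
        rw [Nat.mul_div_cancel_left _ hs.pos, ih y _ hy (by omega), h2]
        omega
      · rw [Nat.factorization_eq_zero_of_not_dvd fun h2 => h1 (Nat.mod_eq_zero_of_dvd h2), add_zero]
  have h1 : x.factorization s ≤ Nat.log2 x := by
    rw [Nat.le_log2 hx]
    exact (Nat.pow_le_pow_left hs.two_le _).trans (Nat.ordProj_le s hx)
  exact (key _ x 0 hx h1).trans (zero_add _)

theorem gb_zero_right (s b : ℕ) : gb s b 0 = 1 := by cases b <;> rfl

theorem gb_succ (s b a : ℕ) : gb s (b + 1) (a + 1) = gb s b a + s ^ (a + 1) * gb s b (a + 1) := rfl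

theorem gb_eq_zero (s : ℕ) {b a : ℕ} (h : b < a) : gb s b a = 0 := by
  induction b generalizing a with
  | zero =>
    obtain ⟨a, rfl⟩ := Nat.exists_eq_add_of_lt h
    rfl
  | succ b ih =>
    obtain ⟨a, rfl⟩ : ∃ a', a = a' + 1 := ⟨a - 1, by omega⟩
    rw [gb_succ, ih (by omega), ih (by omega), mul_zero, add_zero]

theorem gb_pos (s : ℕ) {b a : ℕ} (h : a ≤ b) : 1 ≤ gb s b a := by
  induction b generalizing a with
  | zero => rw [Nat.le_zero.1 h, gb_zero_right]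
  | succ b ih =>
    cases a with
    | zero => rw [gb_zero_right]
    | succ a => exact (ih (by omega)).trans (Nat.le_add_right _ _)

theorem gb_mul {s : ℕ} (hs : 1 ≤ s) (b a : ℕ) : gb s b (a + 1) * (s ^ (a + 1) - 1) = gb s b a * (s ^ (b - a) - 1) := by
  have h0 : ∀ k, ((s ^ k - 1 : ℕ) : ℤ) = (s : ℤ) ^ k - 1 := fun k => by
    rw [Nat.cast_sub (Nat.one_le_pow _ _ hs)]; push_cast; rfl
  induction b generalizing a with
  | zero => simp [gb_eq_zero]
  | succ b ih =>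
    rcases lt_or_ge b a with h | h
    · rw [gb_eq_zero s (show b + 1 < a + 1 by omega), show b + 1 - a = 0 by omega]
      simp
    obtain ⟨c, rfl⟩ := Nat.exists_eq_add_of_le h
    have h1 := ih a
    rw [show a + c - a = c by omega] at h1
    rw [show a + c + 1 - a = c + 1 by omega, gb_succ]
    cases a with
    | zero =>
      rw [gb_zero_right] at h1 ⊢
      rw [gb_zero_right]
      zify at h1 ⊢
      rw [h0, h0] at h1 ⊢
      linear_combination (s : ℤ) ^ (0 + 1) * h1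
    | succ a =>
      have h2 := ih a
      rw [show a + 1 + c - a = c + 1 by omega] at h2
      rw [gb_succ]
      zify at h1 h2 ⊢
      rw [h0, h0] at h1 h2 ⊢
      linear_combination (s : ℤ) ^ (a + 1 + 1) * h1 + h2

/-- the Gaussian binomial coefficient by the product formula -/
def gbF (s b a : ℕ) : ℕ :=
  Nat.rec (motive := fun _ => ℕ) 1 (fun i ih => ih * (s ^ (b - i) - 1) / (s ^ (i + 1) - 1)) a

theorem gbF_eq {s : ℕ} (hs : 2 ≤ s) (b a : ℕ) : gbF s b a = gb s b a := by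
  induction a with
  | zero => rw [gb_zero_right]; rfl
  | succ a ih =>
    rw [show gbF s b (a + 1) = gbF s b a * (s ^ (b - a) - 1) / (s ^ (a + 1) - 1) from rfl, ih, ← gb_mul (by omega),
      Nat.mul_div_cancel _ (Nat.sub_pos_of_lt (Nat.one_lt_pow (by omega) hs))]

/-- an upper bound for the divisors of `x` which are `1` modulo `s` : the cofactors `t, t + 1, …` are tried -/
def nuL (s x : ℕ) (fuel : ℕ) : ℕ → ℕ :=
  Nat.rec (motive := fun _ => ℕ → ℕ) (fun t => x / t)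
    (fun _ ih t => bif Nat.beq (x % t) 0 && Nat.beq (x / t % s) 1 then x / t else frc (t + 1) ih) fuel

theorem le_nuL {s x ν u : ℕ} (hx : x = ν * u) (hν : ν % s = 1) (fuel t : ℕ) (h0 : 0 < t) (ht : t ≤ u) :
    ν ≤ nuL s x fuel t := by
  have key : ∀ t, 0 < t → t ≤ u → ν ≤ x / t := fun t h0 ht =>
    (Nat.le_div_iff_mul_le h0).2 (hx ▸ Nat.mul_le_mul_left _ ht)
  induction fuel generalizing t with
  | zero => exact key t h0 ht
  | succ f ih =>
    rw [show nuL s x (f + 1) t = bif Nat.beq (x % t) 0 && Nat.beq (x / t % s) 1 then x / t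
      else frc (t + 1) (nuL s x f) from rfl, frc_eq, Bool.cond_eq_ite]
    split_ifs with h1
    · exact key t h0 ht
    · refine ih _ (by omega) (lt_of_le_of_ne ht fun h2 => h1 ?_)
      subst h2
      rw [Bool.and_eq_true, Nat.beq_eq, Nat.beq_eq, hx, Nat.mul_mod_left, Nat.mul_div_cancel _ h0]
      exact ⟨rfl, hν⟩

/-- an upper bound for the number of Sylow `s`-subgroups of a group of order `h` -/
def nu (B h s : ℕ) : ℕ := frc (cop s h) fun x => nuL s x B 1

theorem SylNum.pos {h : ℕ} {ν : ℕ → ℕ} (hν : SylNum h ν) {s : ℕ} (hs : s.Prime) : 1 ≤ ν s := by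
  by_contra h1
  have h2 := (hν s hs).2
  rw [show ν s = 0 by omega] at h2
  simp at h2

theorem SylNum.le_nu {h : ℕ} {ν : ℕ → ℕ} (hν : SylNum h ν) (h0 : h ≠ 0) (B : ℕ) {s : ℕ} (hs : s.Prime) :
    ν s ≤ nu B h s := by
  obtain ⟨⟨u, hu⟩, h2⟩ := hν s hs
  rw [nu, frc_eq, cop_eq hs h0]
  refine le_nuL hu h2 B 1 one_pos (Nat.pos_of_ne_zero fun h3 => ?_)
  rw [h3, mul_zero] at hu
  exact (Nat.ordCompl_pos s h0).ne' hu

/-- the minimum -/
def mn (x y : ℕ) : ℕ := frc x fun x => frc y fun y => bif Nat.ble x y then x else y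

theorem mn_eq (x y : ℕ) : mn x y = min x y := by
  rw [mn, frc_eq, frc_eq, Bool.cond_eq_ite, min_def]
  simp only [Nat.ble_eq]

/-- the bound `nu`, cut by `cap` unless `cap = 0` -/
def nuC (B h s cap : ℕ) : ℕ := frc cap fun cap => bif Nat.beq cap 0 then nu B h s else mn cap (nu B h s)

theorem SylNum.le_nuC {h : ℕ} {ν : ℕ → ℕ} (hν : SylNum h ν) (h0 : h ≠ 0) (B : ℕ) {s cap : ℕ} (hs : s.Prime)
    (hc : cap ≠ 0 → ν s ≤ cap) : ν s ≤ nuC B h s cap := by
  rw [nuC, frc_eq, Bool.cond_eq_ite, mn_eq]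
  split_ifs with h1
  · exact hν.le_nu h0 B hs
  · exact le_min (hc fun h2 => h1 (by rw [h2]; rfl)) (hν.le_nu h0 B hs)

/-- the factor of the prime `t` in the bound for the number of lines -/
def trm (B h m t cap : ℕ) : ℕ :=
  bif Nat.beq (m % t) 0 then (frc (vl t h) fun b => frc (vl t m) fun a => gbF t b a) * nuC B h t cap else 1

/-! ### the test -/

/-- the cheap conditions, `n1 = N / a - 1` -/
def test0 (ps : List ℕ) (n1 a o d cG cA : ℕ) : Bool :=
  frc (a * o) fun h => frc (h / d) fun m => frc (Nat.gcd a d) fun g =>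
    Nat.ble 2 d && (Nat.ble (2 * d) n1 && (Nat.ble 2 m && (!Nat.beq g 1 && (Nat.beq ((n1 + 1) * d % 2) 0 &&
    (Nat.ble ((m - 1) * cG) ((h - 1) ^ 2) && (Nat.ble ((a / g - 1) * cA) ((a - 1) ^ 2) &&
    (Nat.ble ((m / Nat.gcd m o - 1) * cA) ((a - 1) ^ 2) && allL ps fun s => Nat.ble s d || !Nat.beq (h % s) 0)))))))

/-- the conditions on the Sylow subgroups -/
def test1 (B : ℕ) (ps : List ℕ) (n1 a o d : ℕ) (cS uA uH : ℕ → ℕ) : Bool :=
  frc (a * o) fun h => frc (h / d) fun m => frc (Nat.gcd a d) fun g =>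
    (allL ps fun s => Nat.beq (d % s) 0 || (!Nat.beq (a % s) 0 ||
      frc (nuC B a s (uA s)) fun ν => Nat.ble (cS s) (ν * mn ν g))) &&
    ((allL ps fun s => Nat.beq (d % s) 0 || (!Nat.beq (h % s) 0 ||
      frc (nuC B h s (uH s)) fun ν => Nat.ble (cS s) (ν * mn ν d))) &&
    frc (prodL ps fun t => trm B h m t (uH t)) fun R => Nat.ble n1 (R * (R - 1)) &&
      allL ps fun s => Nat.beq (d % s) 0 || (!Nat.beq (h % s) 0 ||
        frc (mn R (d * (R / trm B h m s (uH s)))) fun r => Nat.ble n1 (d * (r - 1)) && Nat.ble n1 (r * (r - 1))))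

/-- the test; `B` bounds the search for the largest possible number of Sylow subgroups, `uA s`, `uH s` are known upper
bounds for these numbers (`0` : none) -/
def test (B : ℕ) (ps : List ℕ) (n1 a o d cG cA : ℕ) (cS uA uH : ℕ → ℕ) : Bool :=
  test0 ps n1 a o d cG cA && (test1 0 ps n1 a o d cS uA uH && test1 B ps n1 a o d cS uA uH)

variable {N a o d cG cA : ℕ} {cS νA νH uA uH : ℕ → ℕ} {ps : List ℕ}

theorem NecX.ne_zero (h : NecX N a o d cG cA cS νA νH) : a * o ≠ 0 := fun h1 => by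
  have := h.m_le
  rw [h1, Nat.zero_div] at this
  omega

theorem NecX.n_eq (h : NecX N a o d cG cA cS νA νH) : N / a - 1 + 1 = N / a := by
  have := h.two_le
  have := h.two_mul
  omega

theorem NecX.test0 (h : NecX N a o d cG cA cS νA νH) (hps : ∀ s ∈ ps, s.Prime) :
    test0 ps (N / a - 1) a o d cG cA = true := by
  simp only [Sv.test0, frc_eq, Bool.and_eq_true, Nat.ble_eq, Nat.beq_eq, allL_iff, Bool.or_eq_true, Bool.not_eq_true',
    ← Bool.not_eq_true, h.n_eq]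
  refine ⟨h.two_le, h.two_mul, h.m_le, h.gcd, Nat.mod_eq_zero_of_dvd h.even, h.sigG, h.sigA, h.sigA', fun s hs => ?_⟩
  by_cases h1 : a * o % s = 0
  · exact Or.inl (h.prime_le s (hps s hs) (Nat.dvd_of_mod_eq_zero h1))
  · exact Or.inr h1

theorem NecX.test1 (h : NecX N a o d cG cA cS νA νH) (hps : ∀ s ∈ ps, s.Prime)
    (hc : ∀ s, s.Prime → s ∣ a * o → s ∈ ps) (hA : ∀ s, s.Prime → s ∣ a → uA s ≠ 0 → νA s ≤ uA s)
    (hH : ∀ s, s.Prime → s ∣ a * o → uH s ≠ 0 → νH s ≤ uH s) (B : ℕ) :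
    test1 B ps (N / a - 1) a o d cS uA uH = true := by
  have h0 := h.ne_zero
  have ha : a ≠ 0 := left_ne_zero_of_mul h0
  have hm : a * o / d ≠ 0 := by have := h.m_le; omega
  have hmd : a * o / d ∣ a * o := Nat.div_dvd_of_dvd h.d_dvd
  obtain ⟨r, h1, h2, h3⟩ := h.lin
  set f : ℕ → ℕ := fun t => trm B (a * o) (a * o / d) t (uH t) with hf
  have hf1 : ∀ t, t.Prime → t ∣ a * o / d →
      gb t ((a * o).factorization t) ((a * o / d).factorization t) * νH t ≤ f t := fun t ht h4 => by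
    simp only [hf, trm, frc_eq, Nat.mod_eq_zero_of_dvd h4, vl_eq ht h0, vl_eq ht hm, gbF_eq ht.two_le]
    exact Nat.mul_le_mul_left _ (h.numH.le_nuC h0 B ht (hH t ht (h4.trans hmd)))
  have hf2 : ∀ t ∈ ps, 1 ≤ f t := fun t ht => by
    by_cases h4 : t ∣ a * o / d
    · refine le_trans ?_ (hf1 t (hps t ht) h4)
      exact Nat.mul_pos (gb_pos t ((Nat.factorization_le_iff_dvd hm h0).2 hmd t)) (h.numH.pos (hps t ht))
    · have h5 : Nat.beq (a * o / d % t) 0 = false := by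
        rw [← Bool.not_eq_true, Nat.beq_eq]
        exact fun h5 => h4 (Nat.dvd_of_mod_eq_zero h5)
      simp only [hf, trm, h5]
      exact le_rfl
  have hf3 : ∀ S : Finset ℕ, S ⊆ (a * o / d).primeFactors →
      ∏ t ∈ S, gb t ((a * o).factorization t) ((a * o / d).factorization t) * νH t ≤ ∏ t ∈ S, f t := fun S hS =>
    Finset.prod_le_prod' fun t ht => hf1 t (Nat.prime_of_mem_primeFactors (hS ht)) (Nat.dvd_of_mem_primeFactors (hS ht))
  have hf4 : ∀ t ∈ (a * o / d).primeFactors, t ∈ ps := fun t ht =>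
    hc t (Nat.prime_of_mem_primeFactors ht) ((Nat.dvd_of_mem_primeFactors ht).trans hmd)
  have hR : r ≤ (ps.map f).prod := (h2.trans (hf3 _ le_rfl)).trans (prod_le_list ps f hf2 _ hf4)
  have hq : ∀ R, r ≤ R → N / a - 1 ≤ R * (R - 1) := fun R hR =>
    h3.trans (Nat.mul_le_mul hR (Nat.sub_le_sub_right hR 1))
  simp only [Sv.test1, frc_eq, Bool.and_eq_true, Nat.ble_eq, Nat.beq_eq, allL_iff, Bool.or_eq_true, Bool.not_eq_true',
    ← Bool.not_eq_true, mn_eq, prodL_eq, or_iff_not_imp_left, not_not]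
  refine ⟨fun s hs h4 h5 => ?_, fun s hs h4 h5 => ?_, hq _ hR, fun s hs h4 h5 => ?_⟩
  · have h6 := Nat.dvd_of_mod_eq_zero h5
    have h7 := h.numA.le_nuC ha B (hps s hs) (hA s (hps s hs) h6)
    exact (h.sylA s (hps s hs) h6 fun h8 => h4 (Nat.mod_eq_zero_of_dvd h8)).trans
      (Nat.mul_le_mul h7 (min_le_min_right _ h7))
  · have h6 := Nat.dvd_of_mod_eq_zero h5
    have h7 := h.numH.le_nuC h0 B (hps s hs) (hH s (hps s hs) h6)
    exact (h1 s (hps s hs) h6 fun h8 => h4 (Nat.mod_eq_zero_of_dvd h8)).1.trans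
      (Nat.mul_le_mul h7 (min_le_min_right _ h7))
  · obtain ⟨-, h6, h7⟩ := h1 s (hps s hs) (Nat.dvd_of_mod_eq_zero h5) fun h8 => h4 (Nat.mod_eq_zero_of_dvd h8)
    have h8 : (ps.map f).prod / f s = ((ps.erase s).map f).prod := by
      rw [((List.perm_cons_erase hs).map f).prod_eq, List.map_cons, List.prod_cons,
        Nat.mul_div_cancel_left _ (hf2 s hs)]
    have h9 : r ≤ min (ps.map f).prod (d * ((ps.map f).prod / f s)) := by
      refine le_min hR (h7.trans (Nat.mul_le_mul_left _ ((hf3 _ (Finset.erase_subset _ _)).trans ?_)))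
      rw [h8]
      exact prod_le_list _ f (fun t ht => hf2 t (List.mem_of_mem_erase ht)) _ fun t ht =>
        (List.mem_erase_of_ne (Finset.ne_of_mem_erase ht)).2 (hf4 t (Finset.mem_of_mem_erase ht))
    exact ⟨h6.trans (Nat.mul_le_mul_left _ (Nat.sub_le_sub_right h9 1)), hq _ h9⟩

theorem NecX.test (h : NecX N a o d cG cA cS νA νH) (hps : ∀ s ∈ ps, s.Prime)
    (hc : ∀ s, s.Prime → s ∣ a * o → s ∈ ps) (hA : ∀ s, s.Prime → s ∣ a → uA s ≠ 0 → νA s ≤ uA s)
    (hH : ∀ s, s.Prime → s ∣ a * o → uH s ≠ 0 → νH s ≤ uH s) (B : ℕ) :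
    test B ps (N / a - 1) a o d cG cA cS uA uH = true := by
  rw [Sv.test, h.test0 hps, h.test1 hps hc hA hH, h.test1 hps hc hA hH]
  rfl

/-! ### the sieve -/

/-- the data of a sieve; the bounds may depend on `a` and `o` -/
structure Par where
  /-- the order of the socle -/
  N : ℕ
  /-- a divisor of the degree (the characteristic, or `1`) -/
  p : ℕ
  /-- a multiple of `|G : T|` -/
  outT : ℕ
  /-- a lower bound for the degree -/
  c : ℕ
  /-- a multiple of `|H ⊓ T|` -/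
  NB : ℕ
  /-- a divisor of `|H ⊓ T|` -/
  low : ℕ := 1
  /-- the length of the search for the numbers of Sylow subgroups -/
  B : ℕ := 400
  cG : ℕ → ℕ → ℕ := fun _ _ => c
  cA : ℕ → ℕ → ℕ := fun _ _ => c
  cS : ℕ → ℕ → ℕ → ℕ := fun _ _ _ => c
  uA : ℕ → ℕ → ℕ → ℕ := fun _ _ _ => 0
  uH : ℕ → ℕ → ℕ → ℕ := fun _ _ _ => 0
  /-- a further necessary condition on `a` and `n - 1` -/
  fa : ℕ → ℕ → Bool := fun _ _ => true
  /-- a further necessary condition on `a`, `o`, `d` -/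
  flt : ℕ → ℕ → ℕ → Bool := fun _ _ _ => true

/-- the loop over `d` -/
def loopD (P : Par) (ps : List ℕ) (n1 a o : ℕ) : Bool :=
  frc (a * o) fun h => frc (Nat.gcd h n1) fun D => frc (P.cG a o) fun cG => frc (P.cA a o) fun cA =>
    !Nat.ble ((h / D - 1) * cG) ((h - 1) ^ 2) || (!Nat.ble cG ((h - 1) ^ 2) ||
      (!Nat.ble ((a / Nat.gcd a D - 1) * cA) ((a - 1) ^ 2) ||
        allDiv ps D (fun d => !(P.flt a o d && test P.B ps n1 a o d cG cA (P.cS a o) (P.uA a o) (P.uH a o))) 1))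

/-- the loop over `o` -/
def loopO (P : Par) (ps : List ℕ) (a : ℕ) : Bool :=
  frc (P.N / a) fun n => frc (n - 1) fun n1 =>
    !Nat.beq (n % P.p) 0 || (!Nat.ble P.c n || (Nat.beq (Nat.gcd a n1) 1 || (!P.fa a n1 ||
      allDiv ps P.outT (loopD P ps n1 a) 1)))

/-- no triple `(a, o, d)` passes; `N`, `outT` are evaluated first -/
def sieveG (P : Par) : Bool :=
  frc P.N fun N => frc P.outT fun outT => frc P.c fun c => frc P.p fun p => frc P.low fun low =>
  frc (Nat.gcd N P.NB) fun g => !Nat.beq (g % low) 0 ||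
    withPrimes (g * outT) fun ps => frc (g / low) fun x =>
      allDiv ps x (loopO ⟨N, p, outT, c, P.NB, low, P.B, P.cG, P.cA, P.cS, P.uA, P.uH, P.fa, P.flt⟩ ps) low

theorem sieveG_sound (P : Par) (hs : sieveG P = true)
    (h : NecX P.N a o d (P.cG a o) (P.cA a o) (P.cS a o) νA νH) (hp : P.p ∣ P.N / a) (ho : o ∣ P.outT)
    (hc : P.c ≤ P.N / a) (hNB : a ∣ P.NB) (hlow : P.low ∣ a)
    (hA : ∀ s, s.Prime → s ∣ a → P.uA a o s ≠ 0 → νA s ≤ P.uA a o s)
    (hH : ∀ s, s.Prime → s ∣ a * o → P.uH a o s ≠ 0 → νH s ≤ P.uH a o s)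
    (hfa : P.fa a (P.N / a - 1) = true) (hflt : P.flt a o d = true) : False := by
  have h0 := h.ne_zero
  have ha : a ≠ 0 := left_ne_zero_of_mul h0
  have hg : a ∣ Nat.gcd P.N P.NB := Nat.dvd_gcd h.a_dvd hNB
  simp only [sieveG, frc_eq, Nat.mod_eq_zero_of_dvd (hlow.trans hg), Nat.beq_refl, Bool.not_true, Bool.false_or] at hs
  obtain ⟨-, ps, h1, hps, hcov⟩ := withPrimes_sound hs
  have hcov' : ∀ s, s.Prime → s ∣ a * o → s ∈ ps := fun s hs h2 => hcov s hs (h2.trans (Nat.mul_dvd_mul hg ho))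
  obtain ⟨y, rfl⟩ := hlow
  have h2 := allDiv_sound ps hps _ _ _ h1 y (Nat.dvd_div_of_mul_dvd hg) (right_ne_zero_of_mul ha)
    fun s hs h2 => hcov' s hs ((h2.mul_left _).mul_right _)
  set a := P.low * y
  have hgd : Nat.gcd a d ∣ Nat.gcd a (P.N / a - 1) := Nat.gcd_dvd_gcd_of_dvd_right a h.d_dvd'
  have h3 : Nat.beq (Nat.gcd a (P.N / a - 1)) 1 = false := by
    rw [← Bool.not_eq_true, Nat.beq_eq]
    exact fun h3 => h.gcd (Nat.dvd_one.1 (h3 ▸ hgd))
  simp only [loopO, frc_eq, Nat.mod_eq_zero_of_dvd hp, Nat.beq_refl, Bool.not_true, Bool.false_or, Nat.ble_eq_true_of_le hc,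
    h3, hfa] at h2
  have h4 := allDiv_sound ps hps _ _ _ h2 o ho (right_ne_zero_of_mul h0) fun s hs h4 => hcov' s hs (h4.mul_left _)
  have hD : d ∣ Nat.gcd (a * o) (P.N / a - 1) := Nat.dvd_gcd h.d_dvd h.d_dvd'
  have hD0 : 0 < Nat.gcd (a * o) (P.N / a - 1) := Nat.gcd_pos_of_pos_left _ (Nat.pos_of_ne_zero h0)
  have hd0 : 0 < d := by have := h.two_le; omega
  have h5 : (a * o / Nat.gcd (a * o) (P.N / a - 1) - 1) * P.cG a o ≤ (a * o - 1) ^ 2 :=
    (Nat.mul_le_mul_right _ (Nat.sub_le_sub_right (Nat.div_le_div_left (Nat.le_of_dvd hD0 hD) hd0) 1)).trans h.sigG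
  have h6 : P.cG a o ≤ (a * o - 1) ^ 2 :=
    (Nat.le_mul_of_pos_left _ (by have := h.m_le; omega)).trans h.sigG
  have h7 : (a / Nat.gcd a (Nat.gcd (a * o) (P.N / a - 1)) - 1) * P.cA a o ≤ (a - 1) ^ 2 :=
    (Nat.mul_le_mul_right _ (Nat.sub_le_sub_right (Nat.div_le_div_left
      (Nat.le_of_dvd (Nat.gcd_pos_of_pos_left _ (Nat.pos_of_ne_zero ha)) (Nat.gcd_dvd_gcd_of_dvd_right a hD))
      (Nat.gcd_pos_of_pos_left _ (Nat.pos_of_ne_zero ha))) 1)).trans h.sigA
  simp only [loopD, frc_eq, one_mul, Nat.ble_eq_true_of_le h5, Nat.ble_eq_true_of_le h6, Nat.ble_eq_true_of_le h7, Bool.not_true,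
    Bool.false_or] at h4
  have h8 := allDiv_sound ps hps _ _ _ h4 d hD hd0.ne' fun s hs h8 => hcov' s hs (h8.trans h.d_dvd)
  simp only [one_mul, hflt, h.test hps hcov' hA hH, Bool.and_self, Bool.not_true] at h8
  exact Bool.false_ne_true h8

end Cfsg.Agent.TH.Sv
end

-- part: TH/Sv/Cnt
section
/-!
# S3541: the numerical sieve, counting subgroups (helper74)

* `dc_le` : double counting;
* `sub L k` : the subgroups of order `k` of `L`; `ncard_sub_le_gb`, `ncard_sub_le`, `ncard_le_prod`.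
-/

set_option autoImplicit false
set_option linter.unusedSectionVars false

namespace Cfsg.Agent.TH.Sv

open MulAction Own

/-- double counting -/
theorem dc_le {α β : Type*} {A : Set α} {B : Set β} (hA : A.Finite) (hB : B.Finite) (r : α → β → Prop) {j k : ℕ}
    (h1 : ∀ a ∈ A, j ≤ {b ∈ B | r a b}.ncard) (h2 : ∀ b ∈ B, {a ∈ A | r a b}.ncard ≤ k) :
    A.ncard * j ≤ B.ncard * k := by
  classical
  rw [Set.ncard_eq_toFinset_card A hA, Set.ncard_eq_toFinset_card B hB]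
  refine Finset.card_mul_le_card_mul r (fun a ha => (h1 a (hA.mem_toFinset.1 ha)).trans (le_of_eq ?_))
    fun b hb => le_trans (le_of_eq ?_) (h2 b (hB.mem_toFinset.1 hb))
  · rw [← Set.ncard_coe_finset]
    congr 1
    ext b
    simp
  · rw [← Set.ncard_coe_finset]
    congr 1
    ext a
    simp

/-- a covering by `|B|` sets of size at most `k` -/
theorem cover_le {α β : Type*} {A : Set α} {B : Set β} (hA : A.Finite) (hB : B.Finite) (r : α → β → Prop) {k : ℕ}
    (h1 : ∀ a ∈ A, ∃ b ∈ B, r a b) (h2 : ∀ b ∈ B, {a ∈ A | r a b}.ncard ≤ k) : A.ncard ≤ B.ncard * k := by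
  rw [← mul_one A.ncard]
  exact dc_le hA hB r (fun a ha => (Set.ncard_pos (hB.subset fun _ h => h.1)).2 (h1 a ha)) h2

theorem gb_succ' {s : ℕ} (hs : 1 ≤ s) (b a : ℕ) : gb s (b + 1) (a + 1) = gb s b (a + 1) + s ^ (b - a) * gb s b a := by
  have h1 := gb_mul hs b a
  have h2 := Nat.one_le_pow (a + 1) s hs
  have h3 := Nat.one_le_pow (b - a) s hs
  rw [gb_succ]
  zify [h2, h3] at h1 ⊢
  linear_combination h1

variable {G : Type*} [Group G] [Finite G]

/-- the subgroups of order `k` of `L` -/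
def sub (L : Subgroup G) (k : ℕ) : Set (Subgroup G) := {Q | Q ≤ L ∧ Nat.card Q = k}

theorem exists_sub {L : Subgroup G} {s a : ℕ} (hs : s.Prime) (h : s ^ a ∣ Nat.card L) : ∃ Q, Q ∈ sub L (s ^ a) := by
  have := Fact.mk hs
  obtain ⟨Q, hQ⟩ := Sylow.exists_subgroup_card_pow_prime s h
  exact ⟨Q.map L.subtype, Subgroup.map_subtype_le _, by rw [Subgroup.card_map_of_injective L.subtype_injective, hQ]⟩

theorem ncard_diff (Q M : Subgroup G) : ((Q : Set G) \ M).ncard = Nat.card Q - Nat.card ↥(Q ⊓ M) := by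
  rw [← Set.sdiff_self_inter, Set.ncard_sdiff Set.inter_subset_left, ← Subgroup.coe_inf, ← Nat.card_coe_set_eq,
    ← Nat.card_coe_set_eq]
  rfl

/-- a group of order `s ^ b` has at most `gb s b a` subgroups of order `s ^ a` -/
theorem ncard_sub_le_gb {s : ℕ} (hs : s.Prime) (b : ℕ) {L : Subgroup G} (hL : Nat.card L = s ^ b) (a : ℕ) :
    (sub L (s ^ a)).ncard ≤ gb s b a := by
  induction b generalizing L a with
  | zero =>
    cases a with
    | zero =>
      refine (Set.ncard_le_one (Set.toFinite _)).2 fun Q hQ R hR => ?_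
      rw [Subgroup.card_eq_one.1 hQ.2, Subgroup.card_eq_one.1 hR.2]
    | succ a =>
      rw [Set.eq_empty_of_forall_notMem (s := sub L (s ^ (a + 1))) fun Q hQ => ?_, Set.ncard_empty]
      · exact Nat.zero_le _
      · have h1 := Subgroup.card_le_of_le hQ.1
        rw [hQ.2, hL] at h1
        exact absurd h1 (not_le.2 (Nat.pow_lt_pow_right hs.one_lt (Nat.succ_pos a)))
  | succ b ih =>
    cases a with
    | zero =>
      rw [gb_zero_right]
      refine (Set.ncard_le_one (Set.toFinite _)).2 fun Q hQ R hR => ?_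
      rw [Subgroup.card_eq_one.1 hQ.2, Subgroup.card_eq_one.1 hR.2]
    | succ a =>
    obtain ⟨M, hM, hMc⟩ := exists_sub (L := L) (a := b) hs (hL ▸ pow_dvd_pow s (Nat.le_succ b))
    have hML : M.relIndex L = s := by
      have h1 := card_mul_relIndex hM
      rw [hMc, hL, pow_succ] at h1
      exact Nat.eq_of_mul_eq_mul_left (pow_pos hs.pos b) h1
    let X : Set (Subgroup G) := {Q ∈ sub L (s ^ (a + 1)) | ¬ Q ≤ M}
    have h1 : ∀ Q ∈ X, Nat.card ↥(Q ⊓ M) = s ^ a := fun Q hQ => by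
      have h2 := card_mul_relIndex (inf_le_left : Q ⊓ M ≤ Q)
      rw [Subgroup.inf_relIndex_left, hQ.1.2] at h2
      have h3 : M.relIndex Q ≤ s := hML ▸ Subgroup.relIndex_le_of_le_right hQ.1.1 (hML ▸ hs.ne_zero)
      obtain ⟨i, -, hi⟩ := (Nat.dvd_prime_pow hs).1 (Dvd.intro_left _ h2)
      have h4 : i ≠ 0 := fun h => hQ.2 (Subgroup.relIndex_eq_one.1 (by rw [hi, h, pow_zero]))
      have h5 : i ≤ 1 := (Nat.pow_le_pow_iff_right hs.one_lt).1 (by rw [pow_one, ← hi]; exact h3)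
      rw [hi, show i = 1 by omega, pow_one, pow_succ] at h2
      exact Nat.eq_of_mul_eq_mul_right hs.pos h2
    have h2 : X.ncard * (s ^ (a + 1) - s ^ a) ≤ (sub M (s ^ a) ×ˢ ((L : Set G) \ M)).ncard * 1 := by
      refine dc_le (Set.toFinite _) (Set.toFinite _) (fun Q y => y.1 = Q ⊓ M ∧ y.2 ∈ Q) (fun Q hQ => ?_) fun y hy => ?_
      · refine le_trans (le_of_eq (by rw [ncard_diff, h1 Q hQ, hQ.1.2])) (?_ : ((Q : Set G) \ M).ncard ≤ _)
        exact Set.ncard_le_ncard_of_injOn (fun x => (Q ⊓ M, x))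
          (fun x hx => ⟨⟨⟨inf_le_right, h1 Q hQ⟩, hQ.1.1 hx.1, hx.2⟩, rfl, hx.1⟩) fun x _ y _ h => congrArg Prod.snd h
      · have key : ∀ Q ∈ X, ∀ R ∈ X, y.1 = Q ⊓ M → y.2 ∈ Q → y.1 = R ⊓ M → y.2 ∈ R → Q ≤ R := by
          intro Q hQ R hR e1 e2 e3 e4
          have h3 : Nat.card ↥(Q ⊓ R) ∣ s ^ (a + 1) := hQ.1.2 ▸ Subgroup.card_dvd_of_le inf_le_left
          obtain ⟨i, hi, h4⟩ := (Nat.dvd_prime_pow hs).1 h3
          have h5 : y.1 ≤ Q ⊓ R := le_inf (e1 ▸ inf_le_left) (e3 ▸ inf_le_left)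
          have h6 : a < i := by
            by_contra h6
            have h7 := Subgroup.eq_of_le_of_card_ge h5 (by
              rw [h4, hy.1.2]; exact Nat.pow_le_pow_right hs.pos (not_lt.1 h6))
            exact hy.2.2 (hy.1.1 (h7 ▸ ⟨e2, e4⟩))
          rw [← Subgroup.eq_of_le_of_card_ge (inf_le_left : Q ⊓ R ≤ Q)
            (by rw [h4, hQ.1.2]; exact Nat.pow_le_pow_right hs.pos h6)]
          exact inf_le_right
        exact (Set.ncard_le_one (Set.toFinite _)).2 fun Q hQ R hR =>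
          le_antisymm (key Q hQ.1 R hR.1 hQ.2.1 hQ.2.2 hR.2.1 hR.2.2) (key R hR.1 Q hQ.1 hR.2.1 hR.2.2 hQ.2.1 hQ.2.2)
    rw [mul_one, Set.ncard_prod, ncard_diff, inf_eq_right.2 hM, hL, hMc] at h2
    have h3 : X.ncard ≤ s ^ (b - a) * gb s b a := by
      have h4 : 0 < s ^ (a + 1) - s ^ a := Nat.sub_pos_of_lt (Nat.pow_lt_pow_right hs.one_lt (Nat.lt_succ_self a))
      refine Nat.le_of_mul_le_mul_right ((h2.trans (Nat.mul_le_mul_right _ (ih hMc a))).trans ?_) h4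
      rcases lt_or_ge b a with h | h
      · rw [gb_eq_zero s h]
        simp
      · obtain ⟨c, rfl⟩ := Nat.exists_eq_add_of_le h
        rw [Nat.add_sub_cancel_left, mul_comm (s ^ c), mul_assoc, Nat.mul_sub (s ^ c), ← pow_add, ← pow_add,
          show c + (a + 1) = a + c + 1 by omega, add_comm c a]
    have h4 : sub L (s ^ (a + 1)) ⊆ sub M (s ^ (a + 1)) ∪ X := fun Q hQ => by
      by_cases h : Q ≤ M
      · exact Or.inl ⟨h, hQ.2⟩
      · exact Or.inr ⟨hQ, h⟩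
    rw [gb_succ' hs.pos]
    exact ((Set.ncard_le_ncard h4).trans (Set.ncard_union_le _ _)).trans (Nat.add_le_add (ih hMc _) h3)

theorem ncard_syl_le (L : Subgroup G) {s : ℕ} (hs : s.Prime) :
    (sub L (s ^ (Nat.card L).factorization s)).ncard ≤ Nat.card (Sylow s L) := by
  have := Fact.mk hs
  rw [← Nat.card_coe_set_eq]
  refine Nat.card_le_card_of_injective (fun Q => Sylow.ofCard (Q.1.subgroupOf L)
    ((Nat.card_congr (Subgroup.subgroupOfEquivOfLe Q.2.1).toEquiv).trans Q.2.2)) fun Q R h => Subtype.ext ?_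
  have h1 : Q.1.subgroupOf L = R.1.subgroupOf L := congrArg (fun P : Sylow s L => (P : Subgroup L)) h
  rw [← Subgroup.map_subgroupOf_eq_of_le Q.2.1, h1, Subgroup.map_subgroupOf_eq_of_le R.2.1]

theorem sub.isP {L Q : Subgroup G} {s a : ℕ} (h : Q ∈ sub L (s ^ a)) : IsPGroup s Q := IsPGroup.of_card h.2

theorem exists_le_syl {L Q : Subgroup G} {s : ℕ} (hs : s.Prime) (hQ : IsPGroup s Q) (h : Q ≤ L) :
    ∃ P ∈ sub L (s ^ (Nat.card L).factorization s), Q ≤ P := by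
  have := Fact.mk hs
  obtain ⟨P, hP⟩ := (hQ.comap_subtype (K := L)).exists_le_sylow
  refine ⟨(P : Subgroup L).map L.subtype, ⟨Subgroup.map_subtype_le _, ?_⟩, fun x hx => ⟨⟨x, h hx⟩, hP hx, rfl⟩⟩
  rw [Subgroup.card_map_of_injective L.subtype_injective, P.card_eq_multiplicity]

/-- the number of subgroups of order `s ^ a` -/
theorem ncard_sub_le (L : Subgroup G) {s : ℕ} (hs : s.Prime) (a : ℕ) :
    (sub L (s ^ a)).ncard ≤ gb s ((Nat.card L).factorization s) a * Nat.card (Sylow s L) := by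
  rw [mul_comm]
  refine (cover_le (B := sub L (s ^ (Nat.card L).factorization s)) (Set.toFinite _) (Set.toFinite _) (fun Q P => Q ≤ P)
    (fun Q hQ => exists_le_syl hs (sub.isP hQ) hQ.1) fun P hP => le_trans (Set.ncard_le_ncard fun Q hQ => ?_)
      (ncard_sub_le_gb hs _ hP.2 a)).trans (Nat.mul_le_mul_right _ (ncard_syl_le L hs))
  exact ⟨hQ.2, hQ.1.2⟩

theorem sylNum (L : Type*) [Group L] [Finite L] : SylNum (Nat.card L) fun s => Nat.card (Sylow s L) := fun s hs => by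
  have := Fact.mk hs
  obtain ⟨P⟩ : Nonempty (Sylow s L) := inferInstance
  refine ⟨?_, ?_⟩
  · have h1 := (P : Subgroup L).card_mul_index
    rw [P.card_eq_multiplicity] at h1
    rw [Nat.div_eq_of_eq_mul_right (pow_pos hs.pos _) h1.symm]
    exact P.card_dvd_index
  · exact Eq.trans (card_sylow_modEq_one s L) (Nat.mod_eq_of_lt hs.one_lt)

/-- a subgroup is generated by one Sylow subgroup for each prime -/
theorem ncard_le_prod {H P : Subgroup G} {m : ℕ} (𝒦 : Set (Subgroup G)) (π : Finset ℕ) (hπ : ∀ t ∈ π, t.Prime)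
    (h : ∀ K ∈ 𝒦, K ≤ H ∧ Nat.card K = m ∧ P ≤ K)
    (hP : ∀ t, t.Prime → t ∣ m → t ∈ π ∨ t ^ m.factorization t ∣ Nat.card P) :
    𝒦.ncard ≤ ∏ t ∈ π, (sub H (t ^ m.factorization t)).ncard := by
  have h1 : ∀ (K : 𝒦) (t : π), ∃ Q, Q ∈ sub K.1 (t.1 ^ m.factorization t) := fun K t =>
    exists_sub (hπ t t.2) (by rw [(h K K.2).2.1]; exact Nat.ordProj_dvd m t)
  choose Q hQ using h1
  have h2 : ∀ K : 𝒦, P ⊔ ⨆ t, Q K t = K.1 := fun K => by
    have h3 : P ⊔ ⨆ t, Q K t ≤ K.1 := sup_le (h K K.2).2.2 (iSup_le fun t => (hQ K t).1)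
    refine Subgroup.eq_of_le_of_card_ge h3 (Nat.le_of_dvd Nat.card_pos ?_)
    have hm : m ≠ 0 := by rw [← (h K K.2).2.1]; exact Nat.card_pos.ne'
    rw [(h K K.2).2.1, ← Nat.factorization_prime_le_iff_dvd hm Nat.card_pos.ne']
    intro t ht
    rw [← ht.pow_dvd_iff_le_factorization Nat.card_pos.ne']
    by_cases h4 : t ∣ m
    · rcases hP t ht h4 with h5 | h5
      · rw [← (hQ K ⟨t, h5⟩).2]
        exact Subgroup.card_dvd_of_le (le_sup_of_le_right (le_iSup (Q K) ⟨t, h5⟩))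
      · exact h5.trans (Subgroup.card_dvd_of_le le_sup_left)
    · rw [Nat.factorization_eq_zero_of_not_dvd h4, pow_zero]
      exact one_dvd _
  rw [← Nat.card_coe_set_eq, ← Finset.prod_coe_sort π,
    Finset.prod_congr rfl fun (t : π) _ => (Nat.card_coe_set_eq (sub H (t.1 ^ m.factorization t))).symm, ← Nat.card_pi]
  refine Nat.card_le_card_of_injective (fun K t => ⟨Q K t, (hQ K t).1.trans (h K K.2).1, (hQ K t).2⟩)
    fun K K' e => Subtype.ext ?_
  have h3 : Q K = Q K' := funext fun t => congrArg Subtype.val (congrFun e t)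
  rw [← h2 K, ← h2 K', h3]

end Cfsg.Agent.TH.Sv
end

-- part: TH/Sv/Sieve
section
/-!
# S3541: the numerical sieve applied to an example (helper74)

With `a = |H ⊓ T|`, `o = |G : T|`, `d = |H| / m` :
* `false_of_sieve` : `sieve N p outT c NB low = true` is contradictory;
* `flt_of_sieveF` : `sieveF N p outT c NB low flt = true` gives `flt a o d = false` (survivors: `flt a o d = false`);
* `flt_of_sieveE` : the same with the condition `l ≤ gcd d e` built in;
* `false_of_sieveG` : the general form (separate bounds, known bounds for the numbers of Sylow subgroups).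
-/

set_option autoImplicit false

namespace Cfsg.Agent.TH.Sv

variable {G : Type} [Group G] [Finite G] {T H : Subgroup G} {m : ℕ}

omit [Finite G] in
theorem le_relIndex {c : ℕ} (hc : ∀ M : Subgroup T, M ≠ ⊤ → c ≤ M.index) {M : Subgroup G} (hM : ¬ T ≤ M) :
    c ≤ M.relIndex T := hc _ fun h => hM (Subgroup.subgroupOf_eq_top.1 h)

omit [Finite G] in
theorem not_le_centralizer (hT : AS T) {x : G} (hx : x ≠ 1) : ¬ T ≤ Subgroup.centralizer {x} := fun h => by
  have h1 : x ∈ Subgroup.centralizer (T : Set G) := fun t ht => Subgroup.mem_centralizer_singleton_iff.1 (h ht)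
  rw [hT.cent, Subgroup.mem_bot] at h1
  exact hx h1

theorem not_le_normalizer (hT : AS T) (hH : Half H m) {P : Subgroup G} (hP : P ≤ H) (h0 : P ≠ ⊥) :
    ¬ T ≤ Subgroup.normalizer (P : Set G) := fun h => by
  have := hT.simple
  have h1 : (P.subgroupOf T).Normal := ⟨fun x hx t => (Subgroup.mem_normalizer_iff.1 (h t.2) x).1 hx⟩
  rcases h1.eq_bot_or_eq_top with h2 | h2
  · obtain ⟨x, hx, hx1⟩ := (Subgroup.bot_or_exists_ne_one P).resolve_left h0
    refine not_le_centralizer hT hx1 fun t ht => Subgroup.mem_centralizer_singleton_iff.2 ?_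
    have h3 : t * x * t⁻¹ * x⁻¹ ∈ T := by
      have := T.mul_mem ht (hT.normal.conj_mem _ (T.inv_mem ht) x)
      simpa [mul_assoc] using this
    have h4 : (⟨_, h3⟩ : T) ∈ P.subgroupOf T :=
      P.mul_mem ((Subgroup.mem_normalizer_iff.1 (h ht) x).1 hx) (P.inv_mem hx)
    rw [h2, Subgroup.mem_bot, Subtype.ext_iff] at h4
    have h5 : t * x * t⁻¹ * x⁻¹ = 1 := h4
    calc t * x = t * x * t⁻¹ * x⁻¹ * (x * t) := by group
      _ = x * t := by rw [h5, one_mul]
  · exact hT.not_le hH ((Subgroup.subgroupOf_eq_top.1 h2).trans hP)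

theorem card_div_eq (hT : AS T) (hH : Half H m) : Nat.card T / Nat.card ↥(H ⊓ T) = H.index := by
  rw [← hT.card_inf_mul hH, Nat.mul_div_cancel_left _ Nat.card_pos]

theorem le_index (hT : AS T) (hH : Half H m) {c : ℕ} (hc : ∀ M : Subgroup T, M ≠ ⊤ → c ≤ M.index) : c ≤ H.index :=
  hT.relIndex_eq hH ▸ le_relIndex hc (hT.not_le hH)

/-- the conditions with the least index of a proper subgroup of the socle -/
theorem BoxNec.nec (hb : BoxNec) (hT : AS T) (hH : Half H m) {c : ℕ} (hc : ∀ M : Subgroup T, M ≠ ⊤ → c ≤ M.index) :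
    Nec (Nat.card T) (Nat.card ↥(H ⊓ T)) T.index (Nat.card H / m) c c fun _ => c :=
  hb G T H m c c _ hT hH (fun _ _ hx => le_relIndex hc (not_le_centralizer hT hx))
    (fun _ _ hx => le_relIndex hc (not_le_centralizer hT hx))
    fun _ _ _ hP h0 _ => le_relIndex hc (not_le_normalizer hT hH hP h0)

/-- the general form -/
theorem false_of_sieveG (hb : BoxNecX) (hT : AS T) (hH : Half H m) (P : Par) (hs : sieveG P = true)
    {a o : ℕ} (ha : Nat.card ↥(H ⊓ T) = a) (ho : T.index = o)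
    (hN : Nat.card T = P.N) (hp : P.p ∣ H.index) (hout : o ∣ P.outT) (hc : P.c ≤ H.index) (hNB : a ∣ P.NB)
    (hlow : P.low ∣ a)
    (hG : ∀ x ∈ H, x ≠ 1 → P.cG a o ≤ (Subgroup.centralizer {x}).relIndex T)
    (hA : ∀ x ∈ H ⊓ T, x ≠ 1 → P.cA a o ≤ (Subgroup.centralizer {x}).relIndex T)
    (hS : ∀ s, s.Prime → ∀ Q : Subgroup G, Q ≤ H → Q ≠ ⊥ → IsPGroup s Q →
      P.cS a o s ≤ (Subgroup.normalizer (Q : Set G)).relIndex T)
    (huA : ∀ s, s.Prime → s ∣ a → P.uA a o s ≠ 0 → Nat.card (Sylow s ↥(H ⊓ T)) ≤ P.uA a o s)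
    (huH : ∀ s, s.Prime → s ∣ a * o → P.uH a o s ≠ 0 → Nat.card (Sylow s H) ≤ P.uH a o s)
    (hfa : P.fa a (H.index - 1) = true) (hflt : P.flt a o (Nat.card H / m) = true) : False := by
  have h1 := hb G T H m _ _ _ hT hH hG hA hS
  have h2 := card_div_eq hT hH
  rw [hN, ha] at h2
  rw [hN, ha, ho] at h1
  exact sieveG_sound P hs h1 (h2 ▸ hp) hout (h2 ▸ hc) hNB hlow huA huH (h2 ▸ hfa) hflt

/-- one bound `c` (the least index), a filter `flt`, and the condition `l ≤ gcd d e` -/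
def sieveE (N p outT c NB low e l : ℕ) (flt : ℕ → ℕ → ℕ → Bool) : Bool :=
  frc c fun c => frc e fun e => frc l fun l =>
  sieveG { N, p, outT, c, NB, low, fa := fun _ n1 => Nat.ble l (Nat.gcd n1 e),
           flt := fun a o d => Nat.ble l (Nat.gcd d e) && flt a o d }

theorem flt_of_sieveE (hb : BoxNec) (hT : AS T) (hH : Half H m) {N p outT c NB low e l : ℕ}
    {flt : ℕ → ℕ → ℕ → Bool} (hs : sieveE N p outT c NB low e l flt = true)
    (hN : Nat.card T = N) (hp : p ∣ H.index) (hout : T.index ∣ outT) (hc : ∀ M : Subgroup T, M ≠ ⊤ → c ≤ M.index)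
    (hNB : Nat.card ↥(H ⊓ T) ∣ NB) (hlow : low ∣ Nat.card ↥(H ⊓ T)) (hl : l ≤ Nat.gcd (Nat.card H / m) e) :
    flt (Nat.card ↥(H ⊓ T)) T.index (Nat.card H / m) = false := by
  obtain ⟨νA, νH, h1⟩ := (hb.nec hT hH hc).necX
  have h2 := card_div_eq hT hH
  rw [hN] at h1 h2
  rw [sieveE, frc_eq, frc_eq, frc_eq] at hs
  rw [← Bool.not_eq_true]
  have h3 : l ≤ Nat.gcd (N / Nat.card ↥(H ⊓ T) - 1) e := by
    refine hl.trans (Nat.le_of_dvd (Nat.gcd_pos_of_pos_left _ ?_) (Nat.gcd_dvd_gcd_of_dvd_left _ h1.d_dvd'))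
    have := h1.two_le
    have := h1.two_mul
    omega
  exact fun h => sieveG_sound _ hs h1 (h2 ▸ hp) hout (h2 ▸ le_index hT hH hc) hNB hlow (fun _ _ _ h => absurd rfl h)
    (fun _ _ _ h => absurd rfl h) (Nat.ble_eq_true_of_le h3) (Bool.and_eq_true_iff.2 ⟨Nat.ble_eq_true_of_le hl, h⟩)

/-- one bound `c` (the least index) and a filter `flt` -/
def sieveF (N p outT c NB low : ℕ) (flt : ℕ → ℕ → ℕ → Bool) : Bool := sieveE N p outT c NB low 0 0 flt

theorem flt_of_sieveF (hb : BoxNec) (hT : AS T) (hH : Half H m) {N p outT c NB low : ℕ}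
    {flt : ℕ → ℕ → ℕ → Bool} (hs : sieveF N p outT c NB low flt = true)
    (hN : Nat.card T = N) (hp : p ∣ H.index) (hout : T.index ∣ outT) (hc : ∀ M : Subgroup T, M ≠ ⊤ → c ≤ M.index)
    (hNB : Nat.card ↥(H ⊓ T) ∣ NB) (hlow : low ∣ Nat.card ↥(H ⊓ T)) :
    flt (Nat.card ↥(H ⊓ T)) T.index (Nat.card H / m) = false :=
  flt_of_sieveE hb hT hH hs hN hp hout hc hNB hlow (Nat.zero_le _)

/-- the plain sieve -/
def sieve (N p outT c NB low : ℕ) : Bool := sieveF N p outT c NB low fun _ _ _ => true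

theorem false_of_sieve (hb : BoxNec) (hT : AS T) (hH : Half H m) {N p outT c NB low : ℕ}
    (hs : sieve N p outT c NB low = true)
    (hN : Nat.card T = N) (hp : p ∣ H.index) (hout : T.index ∣ outT) (hc : ∀ M : Subgroup T, M ≠ ⊤ → c ≤ M.index)
    (hNB : Nat.card ↥(H ⊓ T) ∣ NB) (hlow : low ∣ Nat.card ↥(H ⊓ T)) : False :=
  Bool.false_ne_true (flt_of_sieveF hb hT hH hs hN hp hout hc hNB hlow).symm

/-- the filter for a list of survivors `(a, o, d)` -/
def notIn (L : List (ℕ × ℕ × ℕ)) (a o d : ℕ) : Bool :=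
  List.rec (motive := fun _ => Bool) true
    (fun x _ ih => !(Nat.beq x.1 a && (Nat.beq x.2.1 o && Nat.beq x.2.2 d)) && ih) L

/-- the filter for a list of surviving pairs `(a, d)` -/
def notIn2 (L : List (ℕ × ℕ)) (a _o d : ℕ) : Bool :=
  List.rec (motive := fun _ => Bool) true (fun x _ ih => !(Nat.beq x.1 a && Nat.beq x.2 d) && ih) L

theorem mem_of_notIn2 {L : List (ℕ × ℕ)} {a o d : ℕ} (h : notIn2 L a o d = false) : (a, d) ∈ L := by
  induction L with
  | nil => exact absurd h.symm Bool.false_ne_true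
  | cons x L ih =>
    have h1 : (!(Nat.beq x.1 a && Nat.beq x.2 d) && notIn2 L a o d) = false := h
    rw [Bool.and_eq_false_iff, Bool.not_eq_false', Bool.and_eq_true, Nat.beq_eq, Nat.beq_eq] at h1
    rcases h1 with ⟨rfl, rfl⟩ | h1
    · exact List.mem_cons_self
    · exact List.mem_cons_of_mem _ (ih h1)

/-- an example: `Sp₂(2) ≀ S₃` in `Sp₆(2)` -/
example : sieveF 1451520 2 1 28 1296 1 (notIn [(1296, 1, 3)]) = true := by decide +kernel

end Cfsg.Agent.TH.Sv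
end

-- part: TH/Sv/Nec
section
/-!
# S3541: the numerical sieve, the necessary conditions (helper74)

`boxNecX`, `boxNec`, `boxEl`, `boxSq`, `boxCnt`.
-/

set_option autoImplicit false
set_option linter.unusedSectionVars false

namespace Cfsg.Agent.TH.Sv

open MulAction Own

section

variable {G : Type*} [Group G] [Finite G] {T H : Subgroup G} {m : ℕ}

theorem mem_Fx_coe {Y : Subgroup G} {g : G} : (g : G ⧸ H) ∈ (Fx Y : Set (G ⧸ H)) ↔ Y ≤ cj g H := by
  rw [mem_Fx, stabilizer_coe]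

theorem Fx_eq (Y : Subgroup G) : (Fx Y : Set (G ⧸ H)) = fixedPoints Y (G ⧸ H) := by
  ext β
  induction β using QuotientGroup.induction_on with
  | _ g => rw [mem_Fx_coe, mem_fixedPoints_coe]

theorem fix_eq (x : G) : fix H x = (Fx (Subgroup.zpowers x) : Set (G ⧸ H)).ncard := by
  rw [fix, Nat.card_coe_set_eq]
  congr 1
  ext β
  rw [mem_Fx, Subgroup.zpowers_le]
  rfl

theorem one_mem_Fx {Y : Subgroup G} (h : Y ≤ H) : ((1 : G) : G ⧸ H) ∈ (Fx Y : Set (G ⧸ H)) :=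
  mem_Fx_coe.2 (by rwa [cj_one])

theorem nS_eq (L X : Subgroup G) : nS L X = (Subgroup.normalizer (X : Set G)).relIndex L := by
  have h1 := card_mul_relIndex (inf_le_left : L ⊓ Subgroup.normalizer (X : Set G) ≤ L)
  rw [Subgroup.inf_relIndex_left, ← nS_mul L X, mul_comm] at h1
  exact (Nat.eq_of_mul_eq_mul_right Nat.card_pos h1).symm

theorem ncard_Orb_coe (L : Subgroup G) (g : G) : (Orb L (g : G ⧸ H)).ncard = (cj g H).relIndex L := by
  have h1 := card_mul_relIndex (inf_le_left : L ⊓ cj g H ≤ L)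
  rw [Subgroup.inf_relIndex_left, ← ncard_Orb_mul L (g : G ⧸ H), stabilizer_coe, mul_comm] at h1
  exact (Nat.eq_of_mul_eq_mul_right Nat.card_pos h1).symm

/-- every point is fixed by a `B`-conjugate of `Y` : the bound by the number of conjugates -/
theorem n_le_conj {B Y : Subgroup G} (hY : Y ≤ H) (hB : B ≤ H) (h : ∀ g, g ∉ H → ∃ b ∈ B, cj b Y ≤ cj g H) :
    H.index - 1 ≤ nS B Y * ((Fx Y : Set (G ⧸ H)).ncard - 1) := by
  rw [← Gen.ncard_compl]
  refine cover_le (Set.toFinite _) (Set.toFinite _) (fun (β : G ⧸ H) Z => β ∈ Fx Z) (fun β hβ => ?_) ?_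
  · induction β using QuotientGroup.induction_on with
    | _ g =>
    obtain ⟨b, hb, h1⟩ := h g (Gen.mk_ne_one.1 hβ)
    exact ⟨_, ⟨b, hb, rfl⟩, mem_Fx_coe.2 h1⟩
  · rintro _ ⟨b, hb, rfl⟩
    rw [← ncard_Fx_cj b Y, ← Set.ncard_sdiff_singleton_of_mem
      (one_mem_Fx ((cj_mono b hY).trans (cj_of_mem (hB hb)).le))]
    exact Set.ncard_le_ncard fun β hβ => ⟨hβ.2, hβ.1⟩

/-- every point is fixed by a `B`-conjugate of `Y` : the bound by the orbit lengths -/
theorem n_le_orb {B Y : Subgroup G} (hY : Y ≤ H) (hB : B ≤ H) (h : ∀ g, g ∉ H → ∃ b ∈ B, cj b Y ≤ cj g H) {μ : ℕ}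
    (hμ : ∀ g, g ∉ H → (cj g H).relIndex B ≤ μ) : H.index - 1 ≤ μ * ((Fx Y : Set (G ⧸ H)).ncard - 1) := by
  rw [← Gen.ncard_compl, mul_comm, ← Set.ncard_sdiff_singleton_of_mem (one_mem_Fx hY)]
  refine cover_le (Set.toFinite _) (Set.toFinite _) (fun (β γ : G ⧸ H) => β ∈ Orb B γ) (fun β hβ => ?_) fun γ hγ => ?_
  · induction β using QuotientGroup.induction_on with
    | _ g =>
    have hg := Gen.mk_ne_one.1 hβ
    obtain ⟨b, hb, h1⟩ := h g hg
    refine ⟨((b⁻¹ * g : G) : G ⧸ H), ⟨mem_Fx_coe.2 (by rw [cj_mul]; exact (cj_le_iff b).1 h1),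
      Gen.mk_ne_one.2 fun h2 => hg ((mul_mem_cancel_left (inv_mem (hB hb))).1 h2)⟩, b, hb, ?_⟩
    rw [MulAction.Quotient.smul_mk, smul_eq_mul, mul_inv_cancel_left]
  · induction γ using QuotientGroup.induction_on with
    | _ g =>
    refine le_trans ?_ (hμ g (Gen.mk_ne_one.1 hγ.2))
    rw [← ncard_Orb_coe]
    exact Set.ncard_le_ncard fun β hβ => hβ.2

/-- the double count of the pairs (conjugate of `Y`, fixed point) -/
theorem nS_mul_fix (hT : ∀ g, ∃ t ∈ T, cj g H = cj t H) (Y : Subgroup G) :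
    nS T Y * (Fx Y : Set (G ⧸ H)).ncard ≤ H.index * {Z ∈ Cjs T Y | Z ≤ H}.ncard := by
  rw [show H.index = (Set.univ : Set (G ⧸ H)).ncard from (Set.ncard_univ _).symm]
  refine dc_le (Set.toFinite _) (Set.toFinite _) (fun Z (β : G ⧸ H) => β ∈ Fx Z) ?_ fun β _ => ?_
  · rintro _ ⟨t, -, rfl⟩
    rw [← ncard_Fx_cj t Y]
    exact Set.ncard_le_ncard fun β hβ => ⟨trivial, hβ⟩
  · induction β using QuotientGroup.induction_on with
    | _ g =>
    obtain ⟨t, ht, h1⟩ := hT g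
    refine Set.ncard_le_ncard_of_injOn (cj t⁻¹) (fun Z hZ => ⟨cj_mem_Cjs (inv_mem ht) hZ.1, ?_⟩)
      fun _ _ _ _ h => cj_inj _ h
    rw [cj_le_iff, inv_inv, ← h1]
    exact mem_Fx_coe.1 hZ.2

theorem arith_le {c f n k μ : ℕ} (hn : 2 ≤ n) (h1 : c * f ≤ n * k) (h2 : n - 1 ≤ μ * (f - 1)) : c ≤ k * μ := by
  obtain ⟨f, rfl⟩ : ∃ f', f = f' + 1 := ⟨f - 1, by
    rcases Nat.eq_zero_or_pos f with rfl | h
    · simp at h2; omega
    · omega⟩
  rw [Nat.add_sub_cancel] at h2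
  have h3 : 1 ≤ μ := Nat.pos_of_ne_zero fun h => by rw [h, zero_mul] at h2; omega
  have h4 : n ≤ μ * (f + 1) := by rw [mul_add, mul_one]; omega
  refine Nat.le_of_mul_le_mul_right (h1.trans ((Nat.mul_le_mul_right k h4).trans (le_of_eq (by ring)))) f.succ_pos

theorem two_le_index (hH : Half H m) : 2 ≤ H.index := by
  obtain ⟨k, hk, h⟩ := hH.exists_index_eq
  have := Nat.mul_le_mul hk hH.one_lt_d
  omega

/-- the fixed points of a non-trivial subgroup form a proper subspace -/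
theorem ncard_Fx_le (hH : Half H m) {K : Subgroup G} (hK : K ≠ ⊥) : (Fx K : Set (G ⧸ H)).ncard ≤ (Ks H).ncard := by
  obtain ⟨c, hc⟩ : ∃ c, ¬ K ≤ cj c H := by
    by_contra h
    push Not at h
    exact hK (hH.eq_bot_of_le h)
  have h0 : ∀ β ∈ (Fx K : Set (G ⧸ H)), K ≤ cj β.out H := fun β hβ => mem_Fx_coe.1 (by rwa [QuotientGroup.out_eq'])
  have h1 : ∀ β ∈ (Fx K : Set (G ⧸ H)), c⁻¹ * β.out ∉ H := fun β hβ h => hc (by
    have h2 := h0 β hβ
    rwa [show β.out = c * (c⁻¹ * β.out) by group, cj_mul, cj_of_mem h] at h2)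
  refine Set.ncard_le_ncard_of_injOn (fun β => H ⊓ cj (c⁻¹ * β.out) H) (fun β hβ => inf_mem_Ks (h1 β hβ)) ?_
  intro β hβ β' hβ' h
  by_contra hne
  have h2 : β.out⁻¹ * β'.out ∉ H := coe_ne_coe_iff.1 (by rwa [QuotientGroup.out_eq', QuotientGroup.out_eq'])
  have h3 : cj c H ⊓ cj β.out H = cj c H ⊓ cj β'.out H := by
    have h4 := congrArg (cj c) h
    simp only [cj_inf, ← cj_mul, mul_inv_cancel_left] at h4
    exact h4
  have h4 := hH.eq_inf_of_le' h2 (Y := cj c H ⊓ cj β.out H) inf_le_right (h3 ▸ inf_le_right)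
    (hH.card_inf' (h1 β hβ)).ge
  exact hc ((le_inf (h0 β hβ) (h0 β' hβ')).trans (h4.ge.trans inf_le_left))

theorem sub.ne_bot {L P : Subgroup G} {s : ℕ} (hs : s.Prime) (h : s ∣ Nat.card L)
    (hP : P ∈ sub L (s ^ (Nat.card L).factorization s)) : P ≠ ⊥ := fun h1 => by
  have h2 := hP.2
  rw [h1, Subgroup.card_bot] at h2
  exact (Nat.one_lt_pow (hs.factorization_pos_of_dvd Nat.card_pos.ne' h).ne' hs.one_lt).ne h2

theorem nS_le_sylow {B P : Subgroup G} {s : ℕ} (hs : s.Prime) (hP : P ∈ sub B (s ^ (Nat.card B).factorization s)) :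
    nS B P ≤ Nat.card (Sylow s B) := by
  refine (Set.ncard_le_ncard fun _ hZ => ?_).trans (ncard_syl_le B hs)
  exact ⟨le_of_mem_Cjs hP.1 hZ, (card_of_mem_Cjs hZ).trans hP.2⟩

/-- the bound for the normaliser of a Sylow subgroup of `B ⊴ H` -/
theorem syl_bound (hT : AS T) (hH : Half H m) {B P : Subgroup G} (hB : B ≤ H)
    (hn : H ≤ Subgroup.normalizer (B : Set G)) {s : ℕ} (hs : s.Prime) (hd : ¬ s ∣ Nat.card H / m)
    (hP : P ∈ sub B (s ^ (Nat.card B).factorization s)) (hc : ∀ t ∈ T, cj t P ≤ H → cj t P ≤ B) :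
    (Subgroup.normalizer (P : Set G)).relIndex T ≤
      Nat.card (Sylow s B) * min (Nat.card (Sylow s B)) (Nat.gcd (Nat.card B) (Nat.card H / m)) := by
  have := Fact.mk hs
  have h1 : ∀ g, g ∉ H → ∃ b ∈ B, cj b P ≤ cj g H := fun g _ =>
    exists_cj_le_of_relIndex (fun h => hd (h.trans (hH.relIndex_dvd_d hB hn g))) (sub.isP hP) hP.1
  have h2 := n_le_conj (hP.1.trans hB) hB h1
  have h3 := n_le_orb (hP.1.trans hB) hB h1 (μ := Nat.gcd (Nat.card B) (Nat.card H / m)) fun g _ =>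
    Nat.le_of_dvd (Nat.gcd_pos_of_pos_left _ Nat.card_pos)
      (Nat.dvd_gcd (Subgroup.relIndex_dvd_card _ _) (hH.relIndex_dvd_d hB hn g))
  have h4 : {Z ∈ Cjs T P | Z ≤ H}.ncard ≤ Nat.card (Sylow s B) := by
    refine (Set.ncard_le_ncard ?_).trans (ncard_syl_le B hs)
    rintro _ ⟨⟨t, ht, rfl⟩, h⟩
    exact ⟨hc t ht h, (card_cj t P).trans hP.2⟩
  rw [← nS_eq]
  refine arith_le (two_le_index hH) ((nS_mul_fix (hT.exists_cj_eq hH) P).trans (Nat.mul_le_mul_left _ h4)) ?_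
  rw [← Nat.mul_min_mul_right]
  exact le_min (h2.trans (Nat.mul_le_mul_right _ (nS_le_sylow hs hP))) h3

theorem sigma_A (hT : AS T) (hH : Half H m) {c j : ℕ}
    (hc : ∀ x ∈ H ⊓ T, x ≠ 1 → c ≤ (Subgroup.centralizer {x}).relIndex T)
    (hj : ∀ g, g ∉ H → j ≤ ((((H ⊓ T : Subgroup G) : Set G) \ {1}) ∩ cj g H).ncard) :
    j * c ≤ (Nat.card ↥(H ⊓ T) - 1) ^ 2 := by
  rcases Nat.eq_zero_or_pos c with rfl | h0
  · simp
  have h1 := hT.sigma_set hH _ (((H ⊓ T : Subgroup G) : Set G) \ {1}) (fun x hx => hx.1.1) (c := Nat.card T / c) hj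
    (fun x hx t ht h => ⟨⟨h, T.mul_mem (T.mul_mem (T.inv_mem ht) hx.1.2) ht⟩, fun h' => hx.2 (by
      have h2 : t⁻¹ * x * t = 1 := h'
      have h3 : x = t * (t⁻¹ * x * t) * t⁻¹ := by group
      rw [h3, h2]; simp)⟩)
    fun x hx => by
      rw [Nat.le_div_iff_mul_le h0, ← card_mul_relIndex (inf_le_right : Subgroup.centralizer {x} ⊓ T ≤ T),
        Subgroup.inf_relIndex_right]
      exact Nat.mul_le_mul_left _ (hc x hx.1 hx.2)
  rw [ncard_sdiff_one, ← pow_two] at h1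
  have h2 : 0 < Nat.card T := Nat.card_pos
  refine Nat.le_of_mul_le_mul_right ?_ h2
  calc j * c * Nat.card T = j * Nat.card T * c := by ring
    _ ≤ (Nat.card ↥(H ⊓ T) - 1) ^ 2 * (Nat.card T / c) * c := Nat.mul_le_mul_right _ h1
    _ ≤ (Nat.card ↥(H ⊓ T) - 1) ^ 2 * Nat.card T := by
      rw [mul_assoc]; exact Nat.mul_le_mul_left _ (Nat.div_mul_le_self _ _)

theorem m_div_le (hT : AS T) (hH : Half H m) {g : G} (hg : g ∉ H) :
    m / Nat.gcd m T.index ≤ Nat.card ↥(H ⊓ T ⊓ cj g H) := by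
  have := hT.normal
  have h1 := card_mul_relIndex (inf_le_left : H ⊓ cj g H ⊓ T ≤ H ⊓ cj g H)
  rw [Subgroup.inf_relIndex_left, hH.card_inf g hg, inf_right_comm] at h1
  have h2 : T.relIndex (H ⊓ cj g H) ≤ Nat.gcd m T.index := Nat.le_of_dvd (Nat.gcd_pos_of_pos_left _ hH.m_pos)
    (Nat.dvd_gcd (Dvd.intro_left _ h1) (Subgroup.relIndex_dvd_index_of_normal _ _))
  exact Nat.div_le_of_le_mul (h1.ge.trans ((Nat.mul_le_mul_left _ h2).trans (le_of_eq (mul_comm _ _))))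

theorem two_dvd_card (hT : AS T) : 2 ∣ Nat.card G := by
  by_contra h
  exact Gen.not_solvable hT (Cfsg.Agent.S0205.result (by rwa [← Nat.not_even_iff_odd, even_iff_two_dvd]))

/-- the lines through the base point whose stabiliser contains `P` -/
theorem ncard_Ks_le (hH : Half H m) {P : Subgroup G} (h : ∀ g, g ∉ H → ∃ b ∈ H, cj b P ≤ cj g H) (hP : P ≤ H) :
    (Ks H).ncard ≤ Nat.card H / m * {K ∈ Ks H | P ≤ K}.ncard := by
  rw [mul_comm]
  refine cover_le (Set.toFinite _) (Set.toFinite _) (fun K K' => K ∈ Cjs H K') ?_ fun K' hK' => ?_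
  · rintro _ ⟨g, hg, rfl⟩
    obtain ⟨b, hb, h1⟩ := h g hg
    exact ⟨cj b⁻¹ (H ⊓ cj g H), ⟨cj_mem_Ks (inf_mem_Ks hg) (inv_mem hb),
      (cj_le_iff b).1 (le_inf ((cj_mono b hP).trans (cj_of_mem hb).le) h1)⟩, b, hb, (cj_cj_inv b _).symm⟩
  · refine (Set.ncard_le_ncard (t := Cjs H K') fun K hK => hK.2).trans ?_
    have h1 := nS_mul H K'
    have h2 : m ≤ Nat.card ↥(H ⊓ Subgroup.normalizer (K' : Set G)) := by
      rw [← hH.card_of_mem_Ks hK'.1]
      exact Subgroup.card_le_of_le (le_inf (le_of_mem_Ks hK'.1) Subgroup.le_normalizer)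
    rw [Nat.le_div_iff_mul_le hH.m_pos, ← h1]
    exact Nat.mul_le_mul_left _ h2

end

theorem boxNecX : BoxNecX := by
  intro G _ _ T H m cG cA cS hT hH hG hA hS
  have := hT.normal
  have e1 := card_div_eq hT hH
  have e2 := (hT.card_eq_mul hH).symm
  have e3 : Nat.card H / (Nat.card H / m) = m := Nat.div_div_self hH.m_dvd Nat.card_pos.ne'
  have hKs : ∀ K ∈ Ks H, K ≤ H ∧ Nat.card K = m := fun K hK => ⟨le_of_mem_Ks hK, hH.card_of_mem_Ks hK⟩
  have hpr : ∀ π : Finset ℕ, (∀ t ∈ π, t.Prime) → ∏ t ∈ π, (sub H (t ^ m.factorization t)).ncard ≤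
      ∏ t ∈ π, gb t ((Nat.card H).factorization t) (m.factorization t) * Nat.card (Sylow t H) := fun π hπ =>
    Finset.prod_le_prod' fun t ht => ncard_sub_le H (hπ t ht) _
  refine ⟨Subgroup.card_dvd_of_le inf_le_right, ?_, ?_, hH.one_lt_d, ?_, ?_, ?_, ?_, ?_, ?_, ?_, ?_, sylNum _, ?_, ?_, ?_⟩
  · rw [e2]; exact hH.d_dvd_card
  · rw [e1]; exact hH.d_dvd
  · obtain ⟨k, hk, h⟩ := hH.exists_index_eq
    rw [e1, h, Nat.add_sub_cancel]
    exact Nat.mul_le_mul_right _ hk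
  · rw [e2, e3]; exact hH.one_lt
  · obtain ⟨r, hr, h1, h2, -⟩ := hT.exists_prime hH
    exact fun h => hr.one_lt.ne' (Nat.dvd_one.1 (h ▸ Nat.dvd_gcd h1 h2))
  · rw [e1]; exact Alt.two_dvd_mul hH (two_dvd_card hT)
  · rw [e2]; exact fun s hs h => Alt.prime_le_d hH hs h
  · rw [e2, e3]; exact hT.sigma_all hH hG
  · exact sigma_A hT hH hA fun g _ =>
      hH.sub_one_le_ncard_normal inf_le_left hT.le_normalizer_inf (Nat.div_mul_le_self _ _) g
  · rw [e2, e3]
    refine sigma_A hT hH hA fun g hg => ?_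
    rw [sdiff_inter_comm, ← Subgroup.coe_inf, ncard_sdiff_one]
    exact Nat.sub_le_sub_right (m_div_le hT hH hg) 1
  · rw [e2]; exact sylNum _
  · intro s hs h1 h2
    obtain ⟨P, hP⟩ := exists_sub (L := H ⊓ T) hs (Nat.ordProj_dvd _ s)
    exact (hS s hs P (hP.1.trans inf_le_left) (sub.ne_bot hs h1 hP) (sub.isP hP)).trans
      (syl_bound hT hH inf_le_left hT.le_normalizer_inf hs h2 hP fun t _ h =>
        le_inf h ((cj_mono t (hP.1.trans inf_le_right)).trans (cj_normal t T).le))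
  · rw [e1, e2, e3]
    refine ⟨(Ks H).ncard, fun s hs h1 h2 => ?_, ?_, hH.index_sub_one_le_Ks⟩
    · have := Fact.mk hs
      obtain ⟨P, hP⟩ := exists_sub (L := H) hs (Nat.ordProj_dvd _ s)
      have h3 : ∀ g, g ∉ H → ∃ b ∈ H, cj b P ≤ cj g H := fun g _ => hH.exists_cj_le h2 (sub.isP hP) hP.1 g
      refine ⟨?_, ?_, ?_⟩
      · have h4 := syl_bound hT hH le_rfl Subgroup.le_normalizer hs h2 hP fun _ _ h => h
        rw [Nat.gcd_eq_right hH.d_dvd_card] at h4
        exact (hS s hs P hP.1 (sub.ne_bot hs h1 hP) (sub.isP hP)).trans h4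
      · exact (n_le_orb hP.1 le_rfl h3 fun g hg => (hH.relIndex_eq hg).le).trans
          (Nat.mul_le_mul_left _ (Nat.sub_le_sub_right (ncard_Fx_le hH (sub.ne_bot hs h1 hP)) 1))
      · have h4 : ∀ t ∈ m.primeFactors.erase s, t.Prime := fun t ht =>
          Nat.prime_of_mem_primeFactors (Finset.mem_of_mem_erase ht)
        refine (ncard_Ks_le hH h3 hP.1).trans (Nat.mul_le_mul_left _ (le_trans ?_ (hpr _ h4)))
        refine ncard_le_prod (P := P) _ _ h4 (fun K hK => ⟨(hKs K hK.1).1, (hKs K hK.1).2, hK.2⟩) fun t ht h5 => ?_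
        by_cases h6 : t = s
        · right
          rw [h6, hP.2, hH.factorization_eq h2]
        · exact Or.inl (Finset.mem_erase.2 ⟨h6, Nat.mem_primeFactors.2 ⟨ht, h5, hH.m_pos.ne'⟩⟩)
    · have h4 : ∀ t ∈ m.primeFactors, t.Prime := fun t ht => Nat.prime_of_mem_primeFactors ht
      exact (ncard_le_prod (P := ⊥) _ _ h4 (fun K hK => ⟨(hKs K hK).1, (hKs K hK).2, bot_le⟩) fun t ht h5 =>
        Or.inl (Nat.mem_primeFactors.2 ⟨ht, h5, hH.m_pos.ne'⟩)).trans (hpr _ h4)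

theorem boxNec : BoxNec := boxNec_of_X boxNecX

theorem boxEl : BoxEl := by
  intro G _ _ T H M B m s k x hT hH hs hd hM hMn hB hBn hx ho
  have := Fact.mk hs
  have hxB : Subgroup.zpowers x ≤ B := Subgroup.zpowers_le.2 hx
  have hBH := hB.trans hM
  have h1 : ∀ g, g ∉ H → ∃ b ∈ B, cj b (Subgroup.zpowers x) ≤ cj g H := fun g _ =>
    hH.uni hd hM hMn hB hBn (Alt.isPGroup_zpowers ho) hxB g
  have h2 := n_le_conj (hxB.trans hBH) hBH h1
  have h3 := n_le_orb (hxB.trans hBH) hBH h1 (μ := Nat.gcd (Nat.card B) (Nat.card H / m)) fun g _ =>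
    Nat.le_of_dvd (Nat.gcd_pos_of_pos_left _ Nat.card_pos)
      (Nat.dvd_gcd (Subgroup.relIndex_dvd_card _ _) (hH.relIndex_dvd_d₂ hM hMn hB hBn g))
  have h4 : nS B (Subgroup.zpowers x) ≤ (Subgroup.centralizer {x}).relIndex B := by
    rw [nS_eq]
    refine Subgroup.relIndex_le_of_le_left (fun c hc => ?_) Subgroup.index_ne_zero_of_finite
    refine Alt.mem_normalizer_zpowers (j := 1) ?_
    rw [pow_one, Subgroup.mem_centralizer_singleton_iff.1 hc, mul_inv_cancel_right]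
  have h5 : (Subgroup.centralizer {x}).relIndex T * fix H x ≤ H.index * (clsIn T H x).ncard := by
    have h5 := hT.fix_mul hH x
    have h6 := card_mul_relIndex (inf_le_right : Subgroup.centralizer {x} ⊓ T ≤ T)
    rw [Subgroup.inf_relIndex_right, ← hT.card_inf_mul hH] at h6
    refine Nat.le_of_mul_le_mul_right (le_of_eq ?_) (Nat.card_pos (α := ↥(H ⊓ T)))
    rw [mul_assoc, h5]
    linear_combination (clsIn T H x).ncard * h6
  rw [mul_comm]
  refine arith_le (two_le_index hH) h5 ?_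
  rw [← Nat.mul_min_mul_right, fix_eq]
  exact le_min h3 (h2.trans (Nat.mul_le_mul_right _ h4))

theorem boxSq : BoxSq := by
  intro G _ _ H Y W hH hW
  have h1 := nS_mul_fix (T := ⊤) (H := H) (fun g => ⟨g, trivial, rfl⟩) Y
  have h2 : {Z ∈ Cjs ⊤ Y | Z ≤ H} = cjIn H Y := by
    ext Z
    exact ⟨fun ⟨⟨g, _, h⟩, h'⟩ => ⟨h', g, h⟩, fun ⟨h', g, h⟩ => ⟨⟨g, trivial, h⟩, h'⟩⟩
  rw [h2, Fx_eq, ← Nat.card_coe_set_eq] at h1
  have h3 : H.index * W.ncard ≤ nS ⊤ Y ^ 2 := by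
    rw [show H.index = (Set.univ : Set (G ⧸ H)).ncard from (Set.ncard_univ _).symm, ← Set.ncard_prod, pow_two, nS,
      ← Set.ncard_prod]
    have key : ∀ w ∈ W, ∀ g : G, (cj g w.1, cj g w.2) ∈ Cjs ⊤ Y ×ˢ Cjs ⊤ Y := fun w hw g => by
      obtain ⟨⟨-, a, ha⟩, ⟨-, b, hb⟩, -⟩ := hW w hw
      exact ⟨cj_mem_Cjs trivial ⟨a, trivial, ha⟩, cj_mem_Cjs trivial ⟨b, trivial, hb⟩⟩
    refine Set.ncard_le_ncard_of_injOn (fun z => (cj z.1.out z.2.1, cj z.1.out z.2.2)) (fun z hz => key _ hz.2 _) ?_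
    rintro ⟨β, w⟩ hw ⟨β', w'⟩ hw' h
    have e1 : cj β.out w.1 = cj β'.out w'.1 := congrArg Prod.fst h
    have e2 : cj β.out w.2 = cj β'.out w'.2 := congrArg Prod.snd h
    have e3 : β = β' := by
      rw [← QuotientGroup.out_eq' β, ← QuotientGroup.out_eq' β', QuotientGroup.eq]
      refine (hW w hw.2).2.2 _ ?_ ?_
      · rw [cj_mul, ← cj_le_iff, e1]
        exact cj_mono _ (hW w' hw'.2).1.1
      · rw [cj_mul, ← cj_le_iff, e2]
        exact cj_mono _ (hW w' hw'.2).2.1.1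
    subst e3
    exact Prod.ext rfl (Prod.ext (cj_inj _ e1) (cj_inj _ e2))
  have h4 : 0 < H.index := Nat.pos_of_ne_zero Subgroup.index_ne_zero_of_finite
  refine Nat.le_of_mul_le_mul_left ?_ h4
  calc H.index * (Nat.card (fixedPoints Y (G ⧸ H)) ^ 2 * W.ncard)
      = H.index * W.ncard * Nat.card (fixedPoints Y (G ⧸ H)) ^ 2 := by ring
    _ ≤ nS ⊤ Y ^ 2 * Nat.card (fixedPoints Y (G ⧸ H)) ^ 2 := Nat.mul_le_mul_right _ h3
    _ = (nS ⊤ Y * Nat.card (fixedPoints Y (G ⧸ H))) ^ 2 := by ring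
    _ ≤ (H.index * (cjIn H Y).ncard) ^ 2 := Nat.pow_le_pow_left h1 2
    _ = _ := by ring

theorem boxCnt : BoxCnt := by
  intro G _ _ H N m 𝓤 hH hN hn h1 h2
  have key : ∀ K ∈ Ks H, N ⊓ K ∈ 𝓤 ∧ K = H ⊓ Subgroup.normalizer ((N ⊓ K : Subgroup G) : Set G) := by
    rintro _ ⟨g, hg, rfl⟩
    have h3 : N ⊓ (H ⊓ cj g H) ∈ 𝓤 := by
      rw [← inf_assoc, inf_eq_left.2 hN]
      exact h1 g hg
    refine ⟨h3, Subgroup.eq_of_le_of_card_ge (le_inf inf_le_left fun x hx => nm_iff.2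
      (nm_inf (nm_of_conj (hn x hx.1)) (cj_of_mem hx))) ?_⟩
    rw [hH.card_inf g hg]
    exact h2 _ h3
  exact hH.index_le_sq_of_injOn (fun K => N ⊓ K) 𝓤 (Set.toFinite _) (fun K hK => (key K hK).1) fun K hK K' hK' h => by
    rw [(key K hK).2, (key K' hK').2]
    exact congrArg (fun U : Subgroup G => H ⊓ Subgroup.normalizer (U : Set G)) h

end Cfsg.Agent.TH.Sv
end

private theorem dce_c254a5b5f803 : _root_.True := by
  try have : _root_.True := by simp only [_root_.Cfsg.Agent.TH.Sv.loopD.eq_1]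
  try have : _root_.True := by simp only [_root_.Cfsg.Agent.TH.Sv.allL.eq_1]
  try have : _root_.True := by simp only [_root_.Cfsg.Agent.TH.Sv.mn.eq_1]
  try have : _root_.True := by simp only [_root_.Cfsg.Agent.TH.Sv.sieveG.eq_1]
  try have : _root_.True := by simp only [_root_.Cfsg.Agent.TH.Sv.loopO.eq_1]
  try have : _root_.True := by simp only [_root_.Cfsg.Agent.TH.Sv.nu.eq_1]
  try have : _root_.True := by simp only [_root_.Cfsg.Agent.TH.Sv.sieveE.eq_1]
  try have : _root_.True := by simp only [_root_.Cfsg.Agent.TH.Sv.trm.eq_1]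
  try have : _root_.True := by simp only [_root_.Cfsg.Agent.TH.Sv.test1.eq_1]
  try have : _root_.True := by simp only [_root_.Cfsg.Agent.TH.Sv.test0.eq_1]
  try have : _root_.True := by simp only [_root_.Cfsg.Agent.TH.Sv.nuC.eq_1]
  try have : _root_.True := by simp only [_root_.Cfsg.Agent.TH.Sv.withPrimes.eq_1]
  try have : _root_.True := by simp only [_root_.Cfsg.Agent.TH.Sv.test.eq_1]
  try have : _root_.True := by simp only [_root_.Cfsg.Agent.TH.Sv.cop.eq_1]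
  exact _root_.True.intro
end

-- part: TH/Sv/Lin2
section
prune_inst 0x213044007822100000000012100020242400019200600001f1a005420b0fd320894021004e001c120028a28000000008105400d0400000000000000000040000002a520433740d00000010803003180c00000000000000000000000000041004000000000
set_option linter.all false
open scoped Cfsg.Agent.FastGrp

/-!
# S3541: `Sv.boxLin2` (helper74)
-/

set_option autoImplicit false
set_option linter.unusedSectionVars false

namespace Cfsg.Agent.TH.Sv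

open MulAction Own

section

variable {G : Type*} [Group G] [Finite G] {T H : Subgroup G} {m : ℕ}

theorem stab_out (β : G ⧸ H) : stabilizer G β = cj β.out H := by
  rw [← stabilizer_coe, QuotientGroup.out_eq']

theorem card_stab_inf (hH : Half H m) {β γ : G ⧸ H} (h : β ≠ γ) : Nat.card ↥(stabilizer G β ⊓ stabilizer G γ) = m := by
  rw [stab_out, stab_out]
  exact hH.card_inf' (coe_ne_coe_iff.1 (by rwa [QuotientGroup.out_eq', QuotientGroup.out_eq']))

/-- a point outside the fixed point set of `K` is joined to different fixed points by different lines -/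
theorem line_inj (hH : Half H m) {K : Subgroup G} {c β γ : G ⧸ H} (hc : c ∉ Fx K) (hβ : β ∈ Fx K) (hγ : γ ∈ Fx K)
    (h : stabilizer G c ⊓ stabilizer G β = stabilizer G c ⊓ stabilizer G γ) : β = γ := by
  by_contra hne
  have h1 : stabilizer G c ⊓ stabilizer G β = stabilizer G β ⊓ stabilizer G γ :=
    Subgroup.eq_of_le_of_card_ge (le_inf inf_le_right (h ▸ inf_le_right))
      (by rw [card_stab_inf hH hne, card_stab_inf hH fun e : c = β => hc (e ▸ hβ)])
  exact hc ((le_inf hβ hγ).trans (h1.ge.trans inf_le_left))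

/-- `|x^T| fix(x) = n |x^T ∩ H|` -/
theorem cls_mul_fix (hT : AS T) (hH : Half H m) (x : G) :
    (Subgroup.centralizer {x}).relIndex T * fix H x = H.index * (clsIn T H x).ncard := by
  have h5 := hT.fix_mul hH x
  have h6 := card_mul_relIndex (inf_le_right : Subgroup.centralizer {x} ⊓ T ≤ T)
  rw [Subgroup.inf_relIndex_right, ← hT.card_inf_mul hH] at h6
  refine Nat.eq_of_mul_eq_mul_right (Nat.card_pos (α := ↥(H ⊓ T))) ?_
  rw [mul_assoc, h5]
  linear_combination (clsIn T H x).ncard * h6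

/-- subgroups with `g` generators -/
theorem ncard_le_pow (L : Subgroup G) (g : ℕ) (𝒦 : Set (Subgroup G))
    (h : ∀ K ∈ 𝒦, K ≤ L ∧ ∃ s : Fin g → G, Subgroup.closure (Set.range s) = K) : 𝒦.ncard ≤ Nat.card L ^ g := by
  choose s hs using fun K : 𝒦 => (h K K.2).2
  have h1 : Nat.card (Fin g → L) = Nat.card L ^ g := by rw [Nat.card_fun, Nat.card_eq_fintype_card (α := Fin g), Fintype.card_fin]
  rw [← Nat.card_coe_set_eq, ← h1]
  refine Nat.card_le_card_of_injective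
    (fun K i => ⟨s K i, (h K K.2).1 (hs K ▸ Subgroup.subset_closure ⟨i, rfl⟩)⟩) fun K K' e => Subtype.ext ?_
  have h2 : s K = s K' := funext fun i => congrArg Subtype.val (congrFun e i)
  rw [← hs K, ← hs K', h2]

/-- the points whose common stabiliser with `β` meets `T` -/
def Bad (T : Subgroup G) (β : G ⧸ H) : Set (G ⧸ H) := {γ | γ ≠ β ∧ stabilizer G β ⊓ stabilizer G γ ⊓ T ≠ ⊥}

theorem ncard_Bad_le [T.Normal] (β : G ⧸ H) : (Bad T β).ncard ≤ (Bad T ((1 : G) : G ⧸ H)).ncard := by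
  induction β using QuotientGroup.induction_on with
  | _ g =>
  have h1 : g⁻¹ • (g : G ⧸ H) = ((1 : G) : G ⧸ H) := by
    rw [MulAction.Quotient.smul_mk, smul_eq_mul, inv_mul_cancel]
  refine Set.ncard_le_ncard_of_injOn (fun γ => g⁻¹ • γ) (fun γ hγ => ⟨fun e => hγ.1 ?_, fun e => hγ.2 ?_⟩)
    fun _ _ _ _ h => MulAction.injective _ h
  · exact MulAction.injective g⁻¹ (e.trans h1.symm)
  · rw [← cj_eq_bot (g := g⁻¹), cj_inf, cj_inf, cj_stab, cj_stab, cj_normal, h1]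
    exact e

theorem four_mul_Bad_lt (hT : AS T) (hH : Half H m) {c : ℕ}
    (hc : ∀ x ∈ H ⊓ T, x ≠ 1 → c ≤ (Subgroup.centralizer {x}).relIndex T) (h4 : 4 * Nat.card ↥(H ⊓ T) ^ 2 ≤ c) :
    4 * (Bad T ((1 : G) : G ⧸ H)).ncard < H.index := by
  have ha : 0 < Nat.card ↥(H ⊓ T) := Nat.card_pos
  have hc0 : 0 < c := lt_of_lt_of_le (by positivity) h4
  have h1 : (Bad T ((1 : G) : G ⧸ H)).ncard ≤ (((H ⊓ T : Subgroup G) : Set G) \ {1}).ncard *
      (H.index * (Nat.card ↥(H ⊓ T) - 1) / c) := by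
    refine cover_le (Set.toFinite _) (Set.toFinite _) (fun γ x => x • γ = γ) (fun γ hγ => ?_) fun x hx => ?_
    · obtain ⟨x, hx, hx1⟩ := (Subgroup.bot_or_exists_ne_one _).resolve_left hγ.2
      rw [stabilizer_coe, cj_one] at hx
      exact ⟨x, ⟨⟨hx.1.1, hx.2⟩, hx1⟩, hx.1.2⟩
    · have h2 : (clsIn T H x).ncard ≤ Nat.card ↥(H ⊓ T) - 1 := by
        rw [← ncard_sdiff_one]
        refine Set.ncard_le_ncard ?_
        rintro _ ⟨h, t, ht, rfl⟩
        refine ⟨⟨h, T.mul_mem (T.mul_mem (T.inv_mem ht) hx.1.2) ht⟩, fun h' => hx.2 ?_⟩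
        have h2 : t⁻¹ * x * t = 1 := h'
        have h3 : x = t * (t⁻¹ * x * t) * t⁻¹ := by group
        rw [h3, h2]; simp
      have h3 : {γ ∈ Bad T ((1 : G) : G ⧸ H) | x • γ = γ}.ncard ≤ fix H x := by
        rw [fix, Nat.card_coe_set_eq]
        exact Set.ncard_le_ncard fun γ hγ => hγ.2
      refine h3.trans ((Nat.le_div_iff_mul_le hc0).2 ?_)
      rw [mul_comm]
      exact ((Nat.mul_le_mul_right _ (hc x hx.1 hx.2)).trans (cls_mul_fix hT hH x).le).trans (Nat.mul_le_mul_left _ h2)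
  rw [ncard_sdiff_one] at h1
  obtain ⟨a, ha'⟩ : ∃ a, Nat.card ↥(H ⊓ T) = a + 1 := ⟨_, (Nat.succ_pred_eq_of_pos ha).symm⟩
  rw [ha'] at h1 h4
  rw [Nat.add_sub_cancel] at h1
  have h2 := Nat.div_mul_le_self (H.index * a) c
  have h3 := hH.index_pos
  refine Nat.lt_of_mul_lt_mul_right (a := (a + 1) ^ 2) ?_
  calc 4 * (Bad T ((1 : G) : G ⧸ H)).ncard * (a + 1) ^ 2 = (Bad T ((1 : G) : G ⧸ H)).ncard * (4 * (a + 1) ^ 2) := by ring
    _ ≤ a * (H.index * a / c) * c := Nat.mul_le_mul h1 h4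
    _ ≤ a * (H.index * a) := by rw [mul_assoc]; exact Nat.mul_le_mul_left _ h2
    _ < H.index * (a + 1) ^ 2 := by nlinarith only [h3]

/-- a line has at most `(n + 1) / 2` points -/
theorem two_mul_Fx_le (hH : Half H m) {K : Subgroup G} (hK : K ∈ Ks H) :
    2 * (Fx K : Set (G ⧸ H)).ncard ≤ H.index + 1 := by
  obtain ⟨t, -, ht⟩ := hH.exists_not_le (hH.ne_bot_of_mem_Ks hK) (le_of_mem_Ks hK)
  have h1 : (Fx K ∩ Fx (cj t K) : Set (G ⧸ H)).ncard ≤ 1 := by
    refine (Set.ncard_le_one (Set.toFinite _)).2 fun β hβ γ hγ => ?_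
    by_contra hne
    have h2 : K = stabilizer G β ⊓ stabilizer G γ := Subgroup.eq_of_le_of_card_ge (le_inf hβ.1 hγ.1)
      (by rw [card_stab_inf hH hne, hH.card_of_mem_Ks hK])
    have h3 : cj t K = stabilizer G β ⊓ stabilizer G γ := Subgroup.eq_of_le_of_card_ge (le_inf hβ.2 hγ.2)
      (by rw [card_stab_inf hH hne, card_cj, hH.card_of_mem_Ks hK])
    exact ht ((h2.trans h3.symm).le.trans (cj_mono t (le_of_mem_Ks hK)))
  have h2 := Set.ncard_union_add_ncard_inter (Fx K : Set (G ⧸ H)) (Fx (cj t K))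
  have h3 : (Fx K ∪ Fx (cj t K) : Set (G ⧸ H)).ncard ≤ H.index := Set.ncard_le_card _
  rw [ncard_Fx_cj] at h2
  omega

end

theorem boxLin2 : BoxLin2 := by
  intro G _ _ T H m c g hT hH hc h4 hg
  have := hT.normal
  have hb := four_mul_Bad_lt hT hH hc h4
  set b := (Bad T ((1 : G) : G ⧸ H)).ncard with hbdef
  set R := Nat.card H ^ g with hR
  have hn := two_le_index hH
  -- the good points
  let Gd : Set (G ⧸ H) := {((1 : G) : G ⧸ H)}ᶜ \ Bad T ((1 : G) : G ⧸ H)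
  have h1 : H.index - 1 - b ≤ Gd.ncard := by
    rw [← Gen.ncard_compl]
    exact Set.le_ncard_sdiff _ _
  have hGd : ∀ x : G, (x : G ⧸ H) ∈ Gd → x ∉ H ∧ H ⊓ cj x H ⊓ T = ⊥ := fun x hx => by
    refine ⟨Gen.mk_ne_one.1 hx.1, ?_⟩
    by_contra h
    exact hx.2 ⟨hx.1, by rwa [stabilizer_coe, stabilizer_coe, cj_one]⟩
  obtain ⟨β, hβ⟩ : Gd.Nonempty := (Set.ncard_pos (Set.toFinite _)).1 (by omega)
  obtain ⟨x, rfl⟩ := QuotientGroup.mk_surjective β
  obtain ⟨hx, hx'⟩ := hGd x hβ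
  refine ⟨?_, ?_, ?_⟩
  · have h2 := card_mul_relIndex (inf_le_left : H ⊓ T ⊓ cj x H ≤ H ⊓ T)
    rw [Subgroup.inf_relIndex_left, inf_right_comm, hx', Subgroup.card_bot, one_mul] at h2
    exact h2 ▸ hT.relIndex_dvd_d hH x
  · have h2 := card_mul_relIndex (inf_le_left : H ⊓ cj x H ⊓ T ≤ H ⊓ cj x H)
    rw [Subgroup.inf_relIndex_left, hx', Subgroup.card_bot, one_mul, hH.card_inf x hx] at h2
    exact h2 ▸ Subgroup.relIndex_dvd_index_of_normal _ _
  -- lines have at most `2 R` points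
  have h2 : ∀ K ∈ Ks H, (Fx K : Set (G ⧸ H)).ncard ≤ 2 * R := fun K hK => by
    have h3 := two_mul_Fx_le hH hK
    set f := (Fx K : Set (G ⧸ H)).ncard with hf
    have h5 : ((Fx K)ᶜ : Set (G ⧸ H)).ncard = H.index - f := Set.ncard_compl _
    have h6 : f * (H.index - f - b) ≤ ((Fx K)ᶜ : Set (G ⧸ H)).ncard * R := by
      refine dc_le (Set.toFinite _) (Set.toFinite _) (fun β γ : G ⧸ H => stabilizer G β ⊓ stabilizer G γ ⊓ T = ⊥)
        (fun β hβ => ?_) fun γ hγ => ?_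
      · rw [← h5]
        refine (Nat.sub_le_sub_left (ncard_Bad_le β) _).trans ((Set.le_ncard_sdiff _ _).trans (Set.ncard_le_ncard ?_))
        intro γ hγ
        refine ⟨hγ.1, ?_⟩
        by_contra h
        exact hγ.2 ⟨fun e => hγ.1 (e ▸ hβ), h⟩
      · refine le_trans ?_ ((ncard_le_pow (stabilizer G γ) g {L | L ≤ stabilizer G γ ∧ L ⊓ T = ⊥}
          fun L hL => ⟨hL.1, hg L hL.2⟩).trans (by rw [stab_out, card_cj]))
        exact Set.ncard_le_ncard_of_injOn (fun β => stabilizer G γ ⊓ stabilizer G β)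
          (fun β hβ => ⟨inf_le_left, by rw [inf_comm (stabilizer G γ)]; exact hβ.2⟩)
          fun β hβ β' hβ' e => line_inj hH hγ hβ.1 hβ'.1 e
    rw [h5] at h6
    have h7 : H.index - f ≤ 2 * (H.index - f - b) := by omega
    have h8 : 0 < H.index - f := by omega
    refine Nat.le_of_mul_le_mul_right ?_ h8
    calc f * (H.index - f) ≤ f * (2 * (H.index - f - b)) := Nat.mul_le_mul_left _ h7
      _ = 2 * (f * (H.index - f - b)) := by ring
      _ ≤ 2 * ((H.index - f) * R) := Nat.mul_le_mul_left _ h6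
      _ = _ := by ring
  have h3 : Gd.ncard ≤ {K ∈ Ks H | K ⊓ T = ⊥}.ncard * (2 * R - 1) := by
    refine cover_le (Set.toFinite _) (Set.toFinite _) (fun β K => β ∈ Fx K) (fun β hβ => ?_) fun K hK => ?_
    · obtain ⟨y, rfl⟩ := QuotientGroup.mk_surjective β
      exact ⟨_, ⟨inf_mem_Ks (hGd y hβ).1, (hGd y hβ).2⟩, mem_Fx_coe.2 inf_le_right⟩
    · refine le_trans ?_ (Nat.sub_le_sub_right (h2 K hK.1) 1)
      rw [← Set.ncard_sdiff_singleton_of_mem (one_mem_Fx (le_of_mem_Ks hK.1))]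
      exact Set.ncard_le_ncard fun β hβ => ⟨hβ.2, hβ.1.1⟩
  have h5 : {K ∈ Ks H | K ⊓ T = ⊥}.ncard ≤ R := ncard_le_pow H g _ fun K hK => ⟨le_of_mem_Ks hK.1, hg K hK.2⟩
  have h6 := h1.trans (h3.trans (Nat.mul_le_mul_right _ h5))
  have h7 : 1 ≤ R := Nat.one_le_pow _ _ Nat.card_pos
  rw [pow_mul', ← hR]
  obtain ⟨r, hr⟩ : ∃ r, R = r + 1 := ⟨R - 1, by omega⟩
  rw [hr, show 2 * (r + 1) - 1 = 2 * r + 1 by omega] at h6
  rw [hr]
  have h8 : 3 * H.index ≤ 4 * ((r + 1) * (2 * r + 1)) + 3 := by omega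
  linarith only [h8]

end Cfsg.Agent.TH.Sv
end

-- part: TH/Cl/Basic
section
set_option linter.all false
open scoped Cfsg.Agent.FastGrp

/-!
# S3541, classical socles: first consequences of `Ctx` (helper73)

All lemmas `In.*` of `TH/Uni.lean` apply to `c.in : In G H m`; `d = Nat.card H / m`, `n = H.relIndex G`.
-/

set_option autoImplicit false
set_option linter.unusedSectionVars false

namespace Cfsg.Agent.TH.Cl

open Cfsg.Agent.DS.Cl Cfsg.Agent.DS.Cl.Fwd Cfsg.Agent.SB.Cl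

variable {A : Type} [Ring A] [StarRing A] {F : FR A} {G H : Subgroup (RingAut A)} {m p : ℕ}

namespace Ctx

variable (c : Ctx F G H m p)
include c

theorem «in» : In G H m := ⟨c.H_le, c.lie.half⟩

theorem prime : p.Prime := c.lie.prime

theorem simple : IsSimpleGroup F.S := by
  have := c.lie.as.simple
  exact (Subgroup.subgroupOfEquivOfLe c.S_le).symm.isSimpleGroup

theorem noncomm : ¬ IsMulCommutative F.S := fun h => c.lie.as.nonab
  ⟨⟨fun a b => Subtype.ext (Subtype.ext (congrArg (fun x : F.S => (x : RingAut A)) (h.1.1 ⟨a.1.1, a.2⟩ ⟨b.1.1, b.2⟩)))⟩⟩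

theorem H_le_Aut : H ≤ F.Aut := c.H_le.trans c.le

theorem le_SAut : H ≤ SAut A := c.H_le_Aut.trans F.Aut_le_SAut

theorem conj_inf {γ s : RingAut A} (hγ : γ ∈ H) (hs : s ∈ H ⊓ F.S) : γ * s * γ⁻¹ ∈ H ⊓ F.S :=
  ⟨H.mul_mem (H.mul_mem hγ hs.1) (H.inv_mem hγ), FR.conj_mem_S (c.H_le_Aut hγ) hs.2⟩

variable [Finite A]

theorem not_le : ¬ F.S ≤ H := fun h => c.lie.as.not_le c.lie.half fun _ hx => h hx

/-- **MAX** -/
theorem max {M : Subgroup (RingAut A)} (h1 : H ≤ M) (h2 : M ≤ G) (h3 : ¬ F.S ≤ M) : M = H :=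
  c.in.max h1 h2 fun h => h3 (c.S_le.trans h)

/-- **MAX** : the elements of `G` preserving an `H`-invariant set which is not `F.S`-invariant lie in `H` -/
theorem mem_of_inv {X : Set A} (hX : Inv H X) (hS : ¬ Inv F.S X) {g : RingAut A} (hg : g ∈ G)
    (h : ∀ x ∈ X, g x ∈ X) : g ∈ H := by
  rw [← c.max (M := G ⊓ stab F X) (le_inf c.H_le fun γ hγ => ⟨c.H_le_Aut hγ, hX γ hγ⟩) inf_le_left
    fun h1 => hS fun γ hγ => (h1 hγ).2.2]
  exact ⟨hg, c.le hg, h⟩

theorem dvd_index : p ∣ H.relIndex G := c.lie.dvd_index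

/-- `p ∤ d` -/
theorem not_dvd_d : ¬ p ∣ Nat.card H / m := c.in.not_dvd_d c.prime c.dvd_index

theorem inf_not_comm : ¬ ∀ a ∈ H ⊓ F.S, ∀ b ∈ H ⊓ F.S, a * b = b * a := fun h =>
  c.lie.as.inf_not_comm c.lie.half fun a ha b hb => Subtype.ext (h a ⟨ha.1, ha.2⟩ b ⟨hb.1, hb.2⟩)

theorem inf_ne_bot : H ⊓ F.S ≠ ⊥ := fun h => c.inf_not_comm fun a ha b _ => by
  rw [h, Subgroup.mem_bot] at ha
  rw [ha, one_mul, mul_one]

/-- `|H ⊓ S| n = |S|` -/
theorem card_inf_mul : Nat.card ↥(H ⊓ F.S) * H.relIndex G = Nat.card F.S := by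
  have h := c.lie.as.card_inf_mul c.lie.half
  rw [In.card_sub c.S_le] at h
  rw [← h, ← In.card_sub (G := G) (inf_le_left.trans c.H_le)]
  rfl

/-- `|H| = |H ⊓ S| |G : S|` -/
theorem card_eq_mul : Nat.card H = Nat.card ↥(H ⊓ F.S) * F.S.relIndex G := by
  have h := c.lie.as.card_eq_mul c.lie.half
  rw [In.card_sub c.H_le] at h
  rw [h, ← In.card_sub (G := G) (inf_le_left.trans c.H_le)]
  rfl

/-- `G = S H` -/
theorem exists_mul {g : RingAut A} (hg : g ∈ G) : ∃ t ∈ F.S, ∃ h ∈ H, g = t * h := by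
  obtain ⟨t, ht, h, hh, e⟩ := c.lie.as.exists_mul' c.lie.half ⟨g, hg⟩
  exact ⟨t, ht, h, hh, congrArg Subtype.val e⟩

/-- **UNI** for `p`-subgroups: `B ⊴ M ⊴ H` -/
theorem uni {M B Y : Subgroup (RingAut A)} (hM : M ≤ H) (hMn : ∀ a ∈ H, ∀ x ∈ M, a * x * a⁻¹ ∈ M) (hB : B ≤ M)
    (hBn : ∀ a ∈ M, ∀ x ∈ B, a * x * a⁻¹ ∈ B) (hY : IsPGroup p Y) (hYB : Y ≤ B) {g : RingAut A} (hg : g ∈ G) :
    ∃ b ∈ B, TH.cj b Y ≤ TH.cj g H :=
  have : Fact p.Prime := ⟨c.prime⟩
  c.in.uni c.not_dvd_d hM hMn hB hBn hY hYB hg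

/-- `O_p(H) = 1` -/
theorem eq_bot_of_isPGroup {N : Subgroup (RingAut A)} (hN : N ≤ H) (hn : ∀ a ∈ H, ∀ x ∈ N, a * x * a⁻¹ ∈ N)
    (hp : IsPGroup p N) : N = ⊥ :=
  have : Fact p.Prime := ⟨c.prime⟩
  c.in.eq_bot_of_isPGroup c.not_dvd_d hN hn hp

end Ctx

end Cfsg.Agent.TH.Cl
end

-- part: TH/Cl/Cases/Sim
section
set_option linter.all false
open scoped Cfsg.Agent.FastGrp

/-!
# S3541, classical socles: the box `BoxSim` (helper23)

A simple normal subgroup of `H` whose lifts span the ring has trivial centraliser in `F.S`; it is a known simple group.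
-/

set_option autoImplicit false

namespace Cfsg.Agent.TH.Cl

open Cfsg.Agent.DS.Cl Cfsg.Agent.DS.Cl.Fwd Cfsg.Agent.SB.Cl Cfsg.Agent.DS.Cl.Main Module

namespace Cases

theorem center_eq_bot {X : Type*} [Group X] (hs : IsSimpleGroup X) (hn : ¬ IsMulCommutative X) :
    Subgroup.center X = ⊥ := by
  rcases (inferInstance : (Subgroup.center X).Normal).eq_bot_or_eq_top with h | h
  · exact h
  · exact absurd ⟨⟨fun a b => Subgroup.mem_center_iff.1 (h ▸ Subgroup.mem_top b) a⟩⟩ hn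

/-- a simple normal subgroup of Lie type in characteristic `p` is a component -/
theorem hasOwn_of {G : Type*} [Group G] {H N : Subgroup G} {p : ℕ} (hle : N ≤ H)
    (hn : ∀ h ∈ H, ∀ x ∈ N, h * x * h⁻¹ ∈ N) (hs : IsSimpleGroup N) (hc : ¬ IsMulCommutative N)
    (hl : IsLieTypeChar p N) : HasOwn p H := by
  let e := Subgroup.subgroupOfEquivOfLe hle
  have hs' : IsSimpleGroup (N.subgroupOf H) := e.isSimpleGroup
  have hc' : ¬ IsMulCommutative (N.subgroupOf H) := fun h => hc ⟨⟨fun a b => by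
    apply e.symm.injective
    rw [map_mul, map_mul]
    exact h.is_comm.comm _ _⟩⟩
  have hz := center_eq_bot hs' hc'
  let e' : (N.subgroupOf H ⧸ Subgroup.center (N.subgroupOf H)) ≃* N.subgroupOf H :=
    (QuotientGroup.quotientMulEquivOfEq hz).trans QuotientGroup.quotientBot
  have hN : (N.subgroupOf H).Normal := ⟨fun t ht g => hn g g.2 t ht⟩
  refine ⟨N.subgroupOf H, ⟨hN.isSubnormal, ⟨?_⟩, e'.isSimpleGroup⟩,
    OddHalf.Known.isLieTypeChar_congr (e'.trans e).symm hl⟩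
  rcases (inferInstance : (commutator (N.subgroupOf H)).Normal).eq_bot_or_eq_top with h | h
  · rw [commutator_eq_bot_iff_center_eq_top, hz] at h
    exact absurd h bot_ne_top
  · exact h

/-- the abstract boxes cover all known simple groups -/
theorem false_of_sims (s : Sims) (hK : AllK) {G : Type} [Group G] [Finite G] {T H N : Subgroup G} {m p : ℕ}
    (c : LieCtx T H m p) (o : ¬ HasOwn p H) (hN : Sim T H N) (hT : IsCl p T) : False := by
  have := hN.simple
  have hl : ¬ IsLieTypeChar p N := fun h =>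
    o (hasOwn_of (hN.le.trans inf_le_left) hN.nrm hN.simple hN.nonab h)
  have hc : ¬ Cfsg.IsPrimeCyclic N := fun h => by
    have : Fact (Nat.card N).Prime := ⟨h⟩
    have := isCyclic_of_prime_card (α := N) rfl
    exact hN.nonab inferInstance
  by_cases ha : IsAlternating N
  · obtain ⟨k, h5, e⟩ := ha
    by_cases h22 : k ≤ 22
    · exact s.alt hK G T H N m p c o hN hT ⟨hl, k, h5, h22, e⟩
    · exact s.altBig hK G T H N m p c o hN hT ⟨k, by omega, e⟩
  rcases H912.Known.known_split (hK N) hc with h | h | h | h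
  · exact ha h
  · exact s.lie hK G T H N m p c o hN hT ⟨hl, ha, h⟩
  · exact s.spor hK G T H N m p c o hN hT (Or.inr h)
  · exact s.spor hK G T H N m p c o hN hT (Or.inl h)

variable {A : Type} [Ring A] [StarRing A] [Finite A] {F : FR A} {G H : Subgroup (RingAut A)} {m p : ℕ}

theorem false_of_simD (s : Sims) (c : Ctx F G H m p) (h : SimD F H) (hT : IsCl p (F.S.subgroupOf G)) : False := by
  obtain ⟨-, N, hN, hn, hs, hc, htop⟩ := h
  have hNG : N ≤ G := (hN.trans inf_le_left).trans c.H_le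
  have hNP : N ≤ F.PI := (hN.trans inf_le_right).trans F.S_le_PI
  let e := Subgroup.subgroupOfEquivOfLe hNG
  refine false_of_sims s c.allK c.lie c.nown (N := N.subgroupOf G)
    ⟨fun x hx => hN hx, fun g hg x hx => hn g hg x hx, e.isSimpleGroup, fun h => hc ⟨⟨fun a b => ?_⟩⟩,
      fun t ht h => Subtype.ext ?_⟩ hT
  · apply e.symm.injective
    rw [map_mul, map_mul]
    exact h.is_comm.comm _ _
  · have hl : (t : RingAut A) ∈ Lin A := F.PI_le_Lin (F.S_le_PI ht)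
    refine eq_one_of_fix htop hl ?_
    rintro _ ⟨u, hu, hu', rfl⟩
    exact fix_lifts hNP (perfect_of_simple hs hc) hl
      (fun x hx => congrArg Subtype.val (h ⟨x, hNG hx⟩ hx)) u hu hu'

theorem charP_of_cast {K : Type} [Field K] {p : ℕ} (hp : p.Prime) (h : (p : K) = 0) : CharP K p :=
  have : Fact p.Prime := ⟨hp⟩
  (CharP.charP_iff_prime_eq_zero Fact.out).2 h

theorem cast_LR {K : Type} [Field K] {n p : ℕ} (hn : 1 ≤ n) (h : (p : LR (Fin n) K) = 0) : (p : K) = 0 := by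
  have h1 : ((p : LR (Fin n) K).1 : Matrix (Fin n) (Fin n) K) = (p : Matrix (Fin n) (Fin n) K) := rfl
  have h2 : (p : Matrix (Fin n) (Fin n) K) = 0 := by rw [← h1, h]; rfl
  have h3 := congrFun (congrFun h2 ⟨0, hn⟩) ⟨0, hn⟩
  rwa [Matrix.natCast_apply, if_pos rfl] at h3

theorem cast_EB {K V : Type} [Field K] [AddCommGroup V] [Module K V] (h : HF K V) {p : ℕ} (hV : 1 ≤ finrank K V)
    (hp : (p : h.EB) = 0) : (p : K) = 0 := by
  have : Nontrivial V := Module.nontrivial_of_finrank_pos (R := K) hV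
  obtain ⟨v, hv⟩ := exists_ne (0 : V)
  have h1 : (p : Module.End K V) = 0 := hp
  have h2 := LinearMap.congr_fun h1 v
  rw [Module.End.natCast_apply, ← Nat.cast_smul_eq_nsmul K, LinearMap.zero_apply, smul_eq_zero] at h2
  exact h2.resolve_right hv

end Cases

section kinds

variable {K V : Type} [Field K] [Fintype K] [AddCommGroup V] [Module K V] [Finite V] {m p : ℕ}

theorem KL.charP {n : ℕ} {F : FR (LR (Fin n) K)} {G H : Subgroup (RingAut (LR (Fin n) K))} (k : KL F)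
    (c : Ctx F G H m p) : CharP K p :=
  Cases.charP_of_cast c.prime (Cases.cast_LR (by have := k.dim; omega) c.char)

theorem KL.isCl {n : ℕ} {F : FR (LR (Fin n) K)} {G H : Subgroup (RingAut (LR (Fin n) K))} (k : KL F)
    (c : Ctx F G H m p) : IsCl p (F.S.subgroupOf G) := by
  obtain ⟨e⟩ := k.iso
  have := k.dim
  exact Or.inl ⟨K, inferInstance, inferInstance, k.charP c, n, by omega, fun h => by omega,
    ⟨(Subgroup.subgroupOfEquivOfLe c.S_le).trans e⟩⟩

variable {h : HF K V} {F : FR h.EB} {G H : Subgroup (RingAut h.EB)}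

theorem KU.charP {q : ℕ} (k : KU h F q) (c : Ctx F G H m p) : CharP K p :=
  Cases.charP_of_cast c.prime (Cases.cast_EB h (by have := k.dim; omega) c.char)

theorem KSp.charP {j : ℕ} (k : KSp h F j) (c : Ctx F G H m p) : CharP K p :=
  Cases.charP_of_cast c.prime (Cases.cast_EB h (by have := k.dim; have := k.two; omega) c.char)

theorem KO.charP {Q : QuadraticForm K V} (k : KO h F Q) (c : Ctx F G H m p) : CharP K p :=
  Cases.charP_of_cast c.prime (Cases.cast_EB h (by have := k.dim; omega) c.char)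

theorem KU.isCl {q : ℕ} (k : KU h F q) (c : Ctx F G H m p) : IsCl p (F.S.subgroupOf G) := by
  obtain ⟨e⟩ := k.iso
  exact Or.inr (Or.inr (Or.inl ⟨K, inferInstance, inferInstance, k.charP c, _, q, k.card, k.dim, k.ne,
    ⟨(Subgroup.subgroupOfEquivOfLe c.S_le).trans e⟩⟩))

theorem KSp.isCl {j : ℕ} (k : KSp h F j) (c : Ctx F G H m p) : IsCl p (F.S.subgroupOf G) := by
  obtain ⟨e⟩ := k.iso
  exact Or.inr (Or.inl ⟨K, inferInstance, inferInstance, k.charP c, j, k.two, k.ne,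
    ⟨(Subgroup.subgroupOfEquivOfLe c.S_le).trans e⟩⟩)

theorem KO.isCl {Q : QuadraticForm K V} (k : KO h F Q) (c : Ctx F G H m p) : IsCl p (F.S.subgroupOf G) := by
  have := k.dim
  have e0 := Subgroup.subgroupOfEquivOfLe c.S_le
  rcases k.iso with ⟨j, h1, h2, ⟨e⟩, -⟩ | ⟨j, h1, ⟨e⟩, -⟩ | ⟨j, a, b, h1, h2, ⟨e⟩, -⟩
  · exact Or.inr (Or.inr (Or.inr (Or.inl ⟨K, inferInstance, inferInstance, k.charP c, j, by omega, h2,
      ⟨e0.trans e⟩⟩)))
  · exact Or.inr (Or.inr (Or.inr (Or.inr (Or.inl ⟨K, inferInstance, inferInstance, k.charP c, j, by omega,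
      ⟨e0.trans e⟩⟩))))
  · exact Or.inr (Or.inr (Or.inr (Or.inr (Or.inr ⟨K, inferInstance, inferInstance, k.charP c, j, a, b, by omega, h2,
      ⟨e0.trans e⟩⟩))))

end kinds

/-- **[C-Sim]** -/
theorem boxSim : BoxSim := fun s =>
  ⟨fun _ _ _ _ _ _ _ _ _ k c h => Cases.false_of_simD s c h (k.isCl c),
    fun _ _ _ _ _ _ _ _ _ _ _ _ _ _ k c h => Cases.false_of_simD s c h (k.isCl c),
    fun _ _ _ _ _ _ _ _ _ _ _ _ _ _ k c h => Cases.false_of_simD s c h (k.isCl c),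
    fun _ _ _ _ _ _ _ _ _ _ _ _ _ _ k c h => Cases.false_of_simD s c h (k.isCl c)⟩

end Cfsg.Agent.TH.Cl
end

-- part: TH/Cl/Big/Mem
section
set_option linter.all false
open scoped Cfsg.Agent.FastGrp

/-!
# S3541, classical socles: elements of the commutator group of the isometry group (helper57)

`KL.mem_comm`, `KU.mem_comm` (determinant one), `KSp.mem_comm` (all isometries), `KO.mem_comm` (the group `E Q`
generated by the Siegel transformations); Eichler transformations `KU.eich`, `KSp.eich`, `KO.eich`.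
-/

set_option autoImplicit false
set_option linter.unusedSectionVars false

namespace Cfsg.Agent.TH.Cl

open Cfsg.Agent.DS.Cl Cfsg.Agent.DS.Cl.Fwd Cfsg.Agent.SB.Cl Module
open Cfsg.Agent.SB.Fld (prL)
open Cfsg.Agent.LieClassical
open scoped Matrix

section ring

variable {A : Type} [Ring A] [StarRing A] {F : FR A}

theorem conj_mem_comm {u y : Aˣ} (hu : u ∈ F.Iso) (hy : y ∈ (⁅F.Iso, F.Iso⁆ : Subgroup Aˣ)) :
    u * y * u⁻¹ ∈ (⁅F.Iso, F.Iso⁆ : Subgroup Aˣ) := by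
  have h1 := FR.um_mem_comm (FR.cj_mem_Aut hu) hy
  have h2 : um (DS.Cl.cj A u) y = u * y * u⁻¹ := Units.ext rfl
  rwa [h2] at h1

theorem cj_mem_S {y : Aˣ} (hy : y ∈ (⁅F.Iso, F.Iso⁆ : Subgroup Aˣ)) : DS.Cl.cj A y ∈ F.S := ⟨y, hy, rfl⟩

end ring

variable {K V : Type} [Field K] [Fintype K] [AddCommGroup V] [Module K V] [Finite V]

section L

variable {n : ℕ} {F : FR (LR (Fin n) K)}

theorem KL.mem_comm (k : KL F) {u : (LR (Fin n) K)ˣ} (hu : u ∈ F.Iso) (hd : LinearMap.det (prL n K u) = 1) :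
    u ∈ (⁅F.Iso, F.Iso⁆ : Subgroup _) := (SB.Tor.mem_comm_iff k.dim F u).2 ⟨hu, hd⟩

/-- the lift of an element of determinant one -/
theorem KL.exists_lift (k : KL F) {w : End K (Fin n → K)} (hd : LinearMap.det w = 1) :
    ∃ u ∈ (⁅F.Iso, F.Iso⁆ : Subgroup (LR (Fin n) K)ˣ), prL n K u = w := by
  obtain ⟨M, hM⟩ := (Matrix.isUnit_iff_isUnit_det (LinearMap.toMatrix' w)).2
    (by rw [LinearMap.det_toMatrix', hd]; exact isUnit_one)
  have h1 : prL n K (LR.gl M) = w := by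
    change Matrix.toLin' (M : Matrix (Fin n) (Fin n) K) = w
    rw [hM, Matrix.toLin'_toMatrix']
  exact ⟨LR.gl M, k.mem_comm (mem_Iso_max (F.L_eq SB.Tor.eps_LR.cen SB.Tor.eps_LR.add) ((LR.mem_gl _).1 ⟨M, rfl⟩))
    (by rw [h1, hd]), h1⟩

theorem prL_sep (a : LR (Fin n) K) (h1 : prL n K a = 0) (h2 : prL n K (star a) = 0) : a = 0 :=
  SB.Fld.luL.sep a h1 h2

end L

variable {h : HF K V} {F : FR h.EB}

theorem IsU.tau_ne (hU : IsU h) : h.τ ≠ RingHom.id K := fun h0 => by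
  obtain ⟨y, hy⟩ := hU.2
  exact hy (by rw [h0]; rfl)

theorem KU.mem_comm {q : ℕ} (k : KU h F q) {u : h.EBˣ} (hu : u ∈ F.Iso) (hd : LinearMap.det (h.ap u) = 1) :
    u ∈ (⁅F.Iso, F.Iso⁆ : Subgroup _) := by
  have : Module.Finite K V := Module.Finite.of_finite
  let B : V →ₛₗ[h.τ] V →ₗ[K] K := LinearMap.mk₂'ₛₗ h.τ (RingHom.id K) (fun v w => h.b w v)
    (fun _ _ _ => h.add_right _ _ _) (fun _ _ _ => h.smul_right _ _ _) (fun _ _ _ => h.add_left _ _ _)
    fun _ _ _ => h.smul_left _ _ _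
  obtain ⟨c, hc⟩ := ClassicalGeometry.HermOrthonormal.exists_orthonormal_basis (IsU.tau_ne k.u) h.τ_τ B
    ⟨fun v w => by
      change h.τ (h.b w v) = h.b v w
      rw [h.swap w v, k.u.1, one_mul]⟩ fun v hv => h.nondeg v hv
  refine SB.Tor.su_le_comm k.u F k.dim (fun e h4 => k.ne ⟨e, ?_⟩) c (fun i j => ?_) hu hd
  · rw [Nat.card_eq_fintype_card, k.card] at h4
    exact Nat.pow_left_injective two_ne_zero (show q ^ 2 = 2 ^ 2 from h4)
  · rw [show h.b (c i) (c j) = B (c j) (c i) from rfl, hc]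
    simp only [eq_comm]

theorem KSp.mem_comm {j : ℕ} (k : KSp h F j) {u : h.EBˣ} (hu : u ∈ F.Iso) : u ∈ (⁅F.Iso, F.Iso⁆ : Subgroup _) := by
  have : Module.Finite K V := Module.Finite.of_finite
  let B : LinearMap.BilinForm K V := LinearMap.mk₂ K h.b h.add_left h.smul_left h.add_right fun c u v => by
    rw [h.smul_right, k.sp.1, smul_eq_mul]
  obtain ⟨e, he⟩ := ClassicalGeometry.SympIso.exists_linearEquiv_sympForm B k.sp.2.1
    (fun v hv => h.nondeg v fun w => by rw [h.swap v w, show h.b v w = 0 from hv w, map_zero, mul_zero]) k.dim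
  let ψ : Matrix (Fin j ⊕ Fin j) (Fin j ⊕ Fin j) K →* h.EB :=
    { toFun := fun M => h.eb (e.toLinearMap ∘ₗ Matrix.toLin' M ∘ₗ e.symm.toLinearMap)
      map_one' := h.ap_ext fun v => by simp [h.ap_eb, h.ap_one]
      map_mul' := fun M N => h.ap_ext fun v => by simp [h.ap_eb, h.ap_mul] }
  have h2 : ∀ M v, h.ap (ψ M) (e v) = e (M *ᵥ v) := fun M v => by
    change e (M *ᵥ e.symm (e v)) = _
    rw [e.symm_apply_apply]
  let φ : Matrix.symplecticGroup (Fin j) K →* h.EBˣ := (ψ.comp (Matrix.symplecticGroup (Fin j) K).subtype).toHomUnits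
  have hle : φ.range ≤ F.Iso := by
    rintro _ ⟨M, rfl⟩
    refine mem_Iso_max k.sp.2.2 ((h.unit_iff _).2 fun x y => ?_)
    obtain ⟨x, rfl⟩ := e.surjective x
    obtain ⟨y, rfl⟩ := e.surjective y
    exact (congrArg₂ _ (h2 _ x) (h2 _ y)).trans
      ((he _ _).trans ((ClassicalGeometry.SympBasic.sympForm_mulVec M.2 x y).trans (he x y).symm))
  refine Subgroup.commutator_mono hle hle ?_
  rw [comm_range, SympPerfect.commutator_eq_top (by
    have := k.two
    by_cases h2 : j = 2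
    · exact Or.inr (Or.inl ⟨h2, k.ne h2⟩)
    · exact Or.inl (by omega)), ← MonoidHom.range_eq_map]
  have h3 : ∀ v, LinearMap.toMatrix' (e.symm.toLinearMap ∘ₗ h.ap u ∘ₗ e.toLinearMap) *ᵥ v = e.symm (h.ap u (e v)) :=
    fun v => LinearMap.toMatrix'_mulVec _ v
  refine ⟨⟨LinearMap.toMatrix' (e.symm.toLinearMap ∘ₗ h.ap u ∘ₗ e.toLinearMap),
    ClassicalGeometry.SympBasic.mem_symplecticGroup_iff.2 fun x y => ?_⟩, Units.ext (h.ap_ext fun v => ?_)⟩
  · rw [h3, h3, ← he, ← he, e.apply_symm_apply, e.apply_symm_apply]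
    exact (h.unit_iff u).1 hu.1 _ _
  · obtain ⟨v, rfl⟩ := e.surjective v
    exact (h2 _ v).trans ((congrArg e (h3 v)).trans (e.apply_symm_apply _))

theorem KO.good {Q : QuadraticForm K V} (k : KO h F Q) : OrthTrans.Good Q :=
  have : Module.Finite K V := Module.Finite.of_finite
  OrthFinite.good_of_finite (fun x hx => h.nondeg x fun y => by rw [k.o.2.1, QuadraticMap.polar_comm, hx])
    (le_trans (by norm_num) k.dim)

theorem KO.mem_comm {Q : QuadraticForm K V} (k : KO h F Q) {g : V ≃ₗ[K] V} (hg : g ∈ OrthCore.E Q) :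
    ∃ u ∈ (⁅F.Iso, F.Iso⁆ : Subgroup h.EBˣ), ∀ v, h.ap u v = g v := by
  let ψ₀ : (V ≃ₗ[K] V) →* h.EB :=
    { toFun := fun g => h.eb g
      map_one' := rfl
      map_mul' := fun _ _ => rfl }
  have hle : (OrthCore.O Q).map ψ₀.toHomUnits ≤ F.Iso := by
    rintro _ ⟨g, hg, rfl⟩
    exact (SB.Tor.mem_Iso_O k.o _).2 hg
  refine ⟨ψ₀.toHomUnits g, Subgroup.commutator_mono hle hle ?_, fun v => rfl⟩
  rw [← Subgroup.map_commutator, k.good.commutator_eq_E]
  exact ⟨g, hg, rfl⟩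

/-! ### Eichler transformations -/

variable (h F) in
/-- the map `x ↦ x + b(x,e) t - (s b(x,t) + c b(x,e)) e` lies in the commutator group of the isometry group -/
def Eich (e t : V) (s c : K) : Prop :=
  ∃ y ∈ (⁅F.Iso, F.Iso⁆ : Subgroup h.EBˣ), ∀ x, h.ap y x = x + h.b x e • t - (s * h.b x t + c * h.b x e) • e

variable (h) in
/-- the endomorphism -/
def eich (e t : V) (s c : K) : h.EB := h.eb (1 + h.ro t e - s • h.ro e t - c • h.ro e e)

theorem ap_eich (e t : V) (s c : K) (x : V) :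
    h.ap (eich h e t s c) x = x + h.b x e • t - (s * h.b x t + c * h.b x e) • e := by
  change x + h.b x e • t - s • h.b x t • e - c • h.b x e • e = _
  rw [add_smul, smul_smul, smul_smul, sub_sub]

theorem eich_form {e t : V} {s c : K} (hs : ∀ u v, h.b v u = s * h.τ (h.b u v)) (h1 : s * s = 1) (h2 : h.τ s = s)
    (he : h.b e e = 0) (ht : h.b t e = 0) (hc : h.τ c + s * c = h.b t t) (x y : V) :
    h.b (h.ap (eich h e t s c) x) (h.ap (eich h e t s c) y) = h.b x y := by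
  have ht' : h.b e t = 0 := by rw [hs, ht, map_zero, mul_zero]
  simp only [ap_eich, h.sub_left, h.sub_right, h.add_left, h.add_right, h.smul_left, h.smul_right, he, ht, ht',
    hs y t, hs y e, map_add, map_mul, h2, ← hc]
  linear_combination (-(h.τ (h.b y e) * h.b x t)) * h1

theorem det_eich {e t : V} (he : h.b e e = 0) (ht : h.b t e = 0) (ht' : h.b e t = 0) (s c : K) :
    LinearMap.det (h.ap (eich h e t s c)) = 1 := by
  have : Module.Finite K V := Module.Finite.of_finite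
  have h1 : h.ap (eich h e t s c) = LinearMap.transvection (-(s • h.lin t + (c - s * h.b t t) • h.lin e)) e *
      LinearMap.transvection (h.lin e) t := by
    refine LinearMap.ext fun x => ?_
    rw [ap_eich, End.mul_apply, LinearMap.transvection.apply, LinearMap.transvection.apply, sub_eq_add_neg, ← neg_smul]
    congr 2
    change _ = -(s * h.b (x + h.b x e • t) t + (c - s * h.b t t) * h.b (x + h.b x e • t) e)
    rw [h.add_left, h.add_left, h.smul_left, h.smul_left, ht]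
    ring
  rw [h1, map_mul, LinearMap.transvection.det, LinearMap.transvection.det]
  change (1 + -(s * h.b e t + (c - s * h.b t t) * h.b e e)) * (1 + h.b t e) = 1
  rw [he, ht, ht']
  ring

theorem IsU.swap (hU : IsU h) (u v : V) : h.b v u = h.τ (h.b u v) := by rw [h.swap u v, hU.1, one_mul]

theorem IsSp.swap (hS : IsSp h F) (u v : V) : h.b v u = -h.b u v := by
  have h1 := hS.2.1 (u + v)
  rw [h.add_left, h.add_right, h.add_right, hS.2.1, hS.2.1] at h1
  linear_combination h1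

theorem KU.eich {q : ℕ} (k : KU h F q) {e t : V} {c : K} (he : h.b e e = 0) (ht : h.b t e = 0)
    (hc : h.τ c + c = h.b t t) : Eich h F e t 1 c :=
  ⟨SB.Tor.isoU h _ (eich_form (fun u v => by rw [one_mul, IsU.swap k.u]) (one_mul 1) (map_one _) he ht
      (by rwa [one_mul])),
    k.mem_comm (mem_Iso_max k.L (SB.Tor.isoU_ms _ _ _)) (det_eich he ht (by rw [IsU.swap k.u, ht, map_zero]) _ _),
    ap_eich e t 1 c⟩

theorem KSp.eich {j : ℕ} (k : KSp h F j) {e t : V} (ht : h.b t e = 0) (c : K) : Eich h F e t (-1) c :=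
  ⟨SB.Tor.isoU h _ (eich_form (fun u v => by rw [k.sp.1, IsSp.swap k.sp, neg_one_mul]) (by ring) (k.sp.1 _)
      (k.sp.2.1 e) ht (by rw [k.sp.1, k.sp.2.1]; ring)),
    k.mem_comm (mem_Iso_max k.sp.2.2 (SB.Tor.isoU_ms _ _ _)), ap_eich e t (-1) c⟩

theorem KO.eich {Q : QuadraticForm K V} (k : KO h F Q) {e t : V} (he : Q e = 0) (ht : h.b t e = 0) :
    Eich h F e t 1 (Q t) := by
  have ht' : QuadraticMap.polar Q e t = 0 := by rw [QuadraticMap.polar_comm, ← k.o.2.1, ht]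
  obtain ⟨u, hu, h1⟩ := k.mem_comm (OrthCore.siegel_mem_E he ht')
  refine ⟨u, hu, fun x => ?_⟩
  rw [h1, OrthCore.siegel_apply, k.o.2.1, k.o.2.1, QuadraticMap.polar_comm Q x e, QuadraticMap.polar_comm Q x t,
    one_mul, add_smul, sub_sub]

end Cfsg.Agent.TH.Cl
end

-- part: TH/Cl/Big/Key
section
set_option linter.all false
open scoped Cfsg.Agent.FastGrp

/-!
# S3541, classical socles: UNI for an invariant frame (helper57)
-/

set_option autoImplicit false
set_option linter.unusedSectionVars false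

namespace Cfsg.Agent.TH.Cl.Big

open Cfsg.Agent.DS.Cl Cfsg.Agent.DS.Cl.Fwd Cfsg.Agent.SB.Cl Module

variable {A : Type} [Ring A] [StarRing A] {K V : Type} [Field K] [AddCommGroup V] [Module K V]
  {F : FR A} {G H : Subgroup (RingAut A)} {m p : ℕ} {D : Finset A}

/-- **UNI for frames**: a conjugate of the `p`-group `U` preserves the frame `g D` -/
theorem uni_frame [Finite A] (c : Ctx F G H m p) (hI : Inv H D) {U : Subgroup Aˣ}
    (hU : ∀ y ∈ U, y ∈ F.Iso → ∃ k, y ^ p ^ k = 1) {g : Aˣ} (hg : g ∈ (⁅F.Iso, F.Iso⁆ : Subgroup Aˣ)) :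
    ∃ u ∈ F.Iso, (∀ d ∈ D, (u : A) * d = d * u) ∧ ∀ y ∈ (⁅F.Iso, F.Iso⁆ : Subgroup Aˣ), u⁻¹ * y * u ∈ U →
      (∀ d ∈ D, (y : A) * d = d * y) → ∀ d ∈ D, ∃ d' ∈ D, ((g⁻¹ * y * g : Aˣ) : A) * d = d' * (g⁻¹ * y * g : Aˣ) := by
  have hc : ∀ (z : Aˣ) (a : A), (z : A) * a = DS.Cl.cj A z a * z := fun z a => (cj_mul_eq z a).symm
  by_cases hS : Inv F.S D
  · refine ⟨1, one_mem _, fun d _ => by rw [Units.val_one, one_mul, mul_one], fun y hy _ _ d hd => ⟨_, ?_, hc _ d⟩⟩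
    exact hS _ (cj_mem_S (mul_mem (mul_mem (inv_mem hg) hy) hg)) d hd
  let B : Subgroup (RingAut A) := H ⊓ (F.S ⊓ DS.Cl.Fix (D : Set A))
  have hBn : ∀ a ∈ H, ∀ x ∈ B, a * x * a⁻¹ ∈ B := fun a ha x hx =>
    ⟨H.mul_mem (H.mul_mem ha hx.1) (H.inv_mem ha), FR.conj_mem_S (c.H_le_Aut ha) hx.2.1, fun d hd => by
      rw [ra_mul, ra_mul, hx.2.2 _ (hI _ (H.inv_mem ha) d hd), ra_apply_inv]⟩
  obtain ⟨b, hb, h1⟩ := c.uni (M := B) (B := B) (Y := B ⊓ (U ⊓ F.Iso).map (DS.Cl.cj A)) inf_le_left hBn le_rfl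
    (fun a ha => hBn a ha.1) (by
      rintro ⟨_, h0, y, hy, rfl⟩
      obtain ⟨k, hk⟩ := hU y hy.1 hy.2
      exact ⟨k, Subtype.ext (by
        change DS.Cl.cj A y ^ p ^ k = 1
        rw [← map_pow, hk, map_one])⟩) inf_le_left (c.S_le (cj_mem_S hg))
  obtain ⟨u, hu, rfl⟩ := F.S_le_PI hb.2.1
  have hu2 : ∀ d ∈ D, (u : A) * d = d * u := fun d hd => by rw [hc, hb.2.2 d hd]
  refine ⟨u, hu, hu2, fun y hy hyU hyD d hd => ⟨_, ?_, hc _ d⟩⟩
  have h2 : u⁻¹ * y * u ∈ (⁅F.Iso, F.Iso⁆ : Subgroup Aˣ) := by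
    have := conj_mem_comm (inv_mem hu) hy
    rwa [inv_inv] at this
  have h3 : ∀ d ∈ D, DS.Cl.cj A (u⁻¹ * y * u) d = d := fun d hd => by
    have b1 : DS.Cl.cj A u d = d := cj_eq_of_mul (hu2 d hd)
    rw [map_mul, map_mul, ra_mul, ra_mul, b1, cj_eq_of_mul (hyD d hd), map_inv]
    nth_rewrite 1 [← b1]
    rw [ra_inv_apply]
  have h4 : DS.Cl.cj A (u⁻¹ * y * u) ∈ H := c.mem_of_inv hI hS (c.S_le (cj_mem_S h2)) fun d hd => by
    rw [h3 d hd]; exact hd
  have h5 := h1 (TH.conj_mem_cj (DS.Cl.cj A u) (x := DS.Cl.cj A (u⁻¹ * y * u))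
    ⟨⟨h4, cj_mem_S h2, h3⟩, _, ⟨hyU, FR.comm_le_Iso h2⟩, rfl⟩)
  rw [TH.mem_cj, ← map_inv, ← map_inv, ← map_mul, ← map_mul, ← map_mul, ← map_mul,
    show u * (u⁻¹ * y * u) * u⁻¹ = y by group] at h5
  exact hI _ h5 d hd

variable (π : A →+* End K V)

theorem pi_mul (a b : A) (x : V) : π (a * b) x = π a (π b x) := by rw [map_mul, End.mul_apply]

theorem pi_inv (u : Aˣ) (x : V) : π (u⁻¹ : Aˣ) (π u x) = x := by
  rw [← pi_mul, Units.inv_mul, map_one, End.one_apply]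

theorem pi_inv' (u : Aˣ) (x : V) : π u (π (u⁻¹ : Aˣ) x) = x := by
  rw [← pi_mul, Units.mul_inv, map_one, End.one_apply]

/-- the units acting trivially on `V / W`, `W / ⟨e⟩`, `⟨e⟩` -/
def rad (e : V) (W : Submodule K V) : Subgroup Aˣ where
  carrier := {y | π y e = e ∧ (∀ x ∈ W, π y x - x ∈ K ∙ e) ∧ ∀ x, π y x - x ∈ W}
  one_mem' := by simp
  mul_mem' := by
    rintro y z ⟨a1, a2, a3⟩ ⟨b1, b2, b3⟩
    have h : ∀ x, π (y * z : Aˣ) x - x = (π y (π z x) - π z x) + (π z x - x) := fun x => by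
      rw [Units.val_mul, pi_mul, sub_add_sub_cancel]
    refine ⟨by rw [Units.val_mul, pi_mul, b1, a1], fun x hx => ?_, fun x => ?_⟩
    · rw [h]
      exact add_mem (a2 _ (by simpa using W.add_mem (b3 x) hx)) (b2 x hx)
    · rw [h]
      exact add_mem (a3 _) (b3 x)
  inv_mem' := by
    rintro y ⟨a1, a2, a3⟩
    have h : ∀ x, π (y⁻¹ : Aˣ) x - x = -(π y (π (y⁻¹ : Aˣ) x) - π (y⁻¹ : Aˣ) x) := fun x => by rw [pi_inv', neg_sub]
    have h3 : ∀ x, π (y⁻¹ : Aˣ) x - x ∈ W := fun x => by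
      rw [h]
      exact neg_mem (a3 _)
    refine ⟨by nth_rewrite 1 [← a1]; rw [pi_inv], fun x hx => ?_, h3⟩
    rw [h]
    exact neg_mem (a2 _ (by simpa using W.add_mem (h3 x) hx))

variable {π}

theorem rad_pow (hsep : ∀ a, π a = 0 → π (star a) = 0 → a = 0) (hp : p.Prime) (h0 : (p : A) = 0) {e : V}
    {W : Submodule K V} {y : Aˣ} (hy : y ∈ rad π e W) (hy' : y ∈ F.Iso) : y ^ p ^ 2 = 1 := by
  obtain ⟨a1, a2, a3⟩ := hy
  have h1 : (π y - 1) ^ 3 = 0 := LinearMap.ext fun x => by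
    obtain ⟨t, ht⟩ := Submodule.mem_span_singleton.1 (a2 _ (a3 x))
    change π y (π y (π y x - x) - (π y x - x)) - (π y (π y x - x) - (π y x - x)) = 0
    rw [← ht, map_smul, a1, sub_self]
  have h2 : π ((y ^ p ^ 2 : Aˣ) : A) = 1 := by
    obtain ⟨r, hr⟩ := (Commute.one_left (π y - 1)).exists_add_pow_prime_pow_eq hp 2
    have h3 : (p : End K V) = 0 := by rw [← map_natCast π, h0, map_zero]
    have h4 : 3 ≤ p ^ 2 := le_trans (by norm_num) (Nat.pow_le_pow_left hp.two_le 2)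
    rw [add_sub_cancel, one_pow, pow_eq_zero_of_le h4 h1, h3, zero_mul, zero_mul, zero_mul, add_zero, add_zero] at hr
    rw [Units.val_pow_eq_pow_val, map_pow, hr]
  have h3 := congrArg π (pow_mem hy' (p ^ 2)).1
  rw [map_mul, h2, one_mul] at h3
  exact Units.ext (sub_eq_zero.1 (hsep _ (by rw [map_sub, h2, Units.val_one, map_one, sub_self])
    (by rw [star_sub, map_sub, h3, Units.val_one, star_one, sub_self])))

theorem comm_of_pi (hsep : ∀ a, π a = 0 → π (star a) = 0 → a = 0) {y : Aˣ} (hy : y ∈ F.Iso) {d : A} (hd : star d = d)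
    (h : ∀ x, π y (π d x) = π d (π y x)) : (y : A) * d = d * y := by
  refine sub_eq_zero.1 (hsep _ ?_ ?_)
  · rw [map_sub, sub_eq_zero]
    exact LinearMap.ext fun x => by rw [pi_mul, pi_mul, h]
  · rw [star_sub, star_mul, star_mul, hd, ← FR.Iso.inv_eq hy, map_sub, sub_eq_zero]
    refine LinearMap.ext fun x => ?_
    rw [pi_mul, pi_mul, ← pi_inv π y (π d _), h, pi_inv']

theorem pi_orth (hD : Fr D) {d d' : A} (hd : d ∈ D) (hd' : d' ∈ D) (h : d ≠ d') (x : V) : π d (π d' x) = 0 := by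
  rw [← pi_mul, hD.orth d hd d' hd' h, map_zero, LinearMap.zero_apply]

theorem pi_idem (hD : Fr D) {d : A} (hd : d ∈ D) (x : V) : π d (π d x) = π d x := by rw [← pi_mul, hD.idem d hd]

/-- a non-zero vector of another block -/
theorem exists_other (hsep : ∀ a, π a = 0 → π (star a) = 0 → a = 0) (hD : Fr D) (e : A) :
    ∃ f ∈ D, f ≠ e ∧ ∃ w, w ≠ 0 ∧ π f w = w := by
  obtain ⟨f, hf, hfe⟩ := Finset.exists_mem_ne (lt_of_lt_of_le one_lt_two hD.two) e
  by_contra hcon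
  push Not at hcon
  have h1 : π f = 0 := LinearMap.ext fun x => not_not.1 fun h0 => hcon f hf hfe _ h0 (pi_idem hD hf x)
  exact hD.ne f hf (hsep f h1 (by rw [hD.symm f hf, h1]))

/-- **the key lemma** -/
theorem key [Finite A] (hsep : ∀ a, π a = 0 → π (star a) = 0 → a = 0) (c : Ctx F G H m p) (hD : Fr D) (hI : Inv H D)
    {e : A} (he : e ∈ D) (e₀ : V) (W : Submodule K V) {g : Aˣ} (hg : g ∈ (⁅F.Iso, F.Iso⁆ : Subgroup Aˣ)) :
    ∃ u ∈ F.Iso, (∀ x, π e (π u x) = π u (π e x)) ∧ ∀ y ∈ (⁅F.Iso, F.Iso⁆ : Subgroup Aˣ),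
      π y (π u e₀) = π u e₀ → (∀ x ∈ W, π y (π u x) - π u x ∈ K ∙ π u e₀) →
      (∀ x, ∃ z ∈ W, π y x - x = π u z) → (∀ x, π e (π y x - x) = π y x - x) → (∀ x, π e x = 0 → π y x = x) →
      ∀ w, w ≠ 0 → π e w = w → π y (π g w) = π g w →
        (∀ x, π e x = 0 → ∃ x', π e x' = 0 ∧ π y (π g x) = π g x') ∧
        ∀ x, π e x = x → ∃ x', π e x' = x' ∧ π y (π g x) = π g x' := by
  obtain ⟨u, hu, h1, h2⟩ := uni_frame c hI (U := rad π e₀ W)
    (fun y hy hy' => ⟨2, rad_pow hsep c.prime c.char hy hy'⟩) hg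
  refine ⟨u, hu, fun x => by rw [← pi_mul, ← pi_mul, h1 e he], fun y hy a1 a2 a3 a4 a5 w hw0 hw hyw => ?_⟩
  have hz : ∀ (a : Aˣ) x, π (a⁻¹ * y * a : Aˣ) x = π (a⁻¹ : Aˣ) (π y (π a x)) := fun a x => by
    rw [Units.val_mul, Units.val_mul, pi_mul, pi_mul]
  have hz' : ∀ x, π (u⁻¹ * y * u : Aˣ) x - x = π (u⁻¹ : Aˣ) (π y (π u x) - π u x) := fun x => by
    rw [hz, map_sub, pi_inv]
  obtain ⟨d', hd', h3⟩ := h2 y hy ⟨by rw [hz, a1, pi_inv], fun x hx => by
      obtain ⟨t, ht⟩ := Submodule.mem_span_singleton.1 (a2 x hx)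
      rw [hz', ← ht, map_smul, pi_inv]
      exact Submodule.mem_span_singleton.2 ⟨t, rfl⟩, fun x => by
      obtain ⟨z, hz1, hz2⟩ := a3 (π u x)
      rwa [hz', hz2, pi_inv]⟩ (fun d hd => comm_of_pi hsep (FR.comm_le_Iso hy) (hD.symm d hd) fun x => by
      have b1 : π d (π y x) = π d x + π d (π e (π y x - x)) := by rw [a4, map_sub, add_sub_cancel]
      by_cases hde : d = e
      · subst hde
        have b2 := a5 (x - π d x) (by rw [map_sub, pi_idem hD hd, sub_self])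
        rw [map_sub, sub_eq_sub_iff_sub_eq_sub] at b2
        rw [b1, a4, a4, b2, add_sub_cancel]
      · rw [b1, pi_orth hD hd he hde, add_zero, a5 _ (pi_orth hD he hd (Ne.symm hde) x)]) e he
  have h4 : ∀ x, π (g⁻¹ : Aˣ) (π y (π g (π e x))) = π d' (π (g⁻¹ : Aˣ) (π y (π g x))) := fun x => by
    rw [← hz, ← hz, ← pi_mul, h3, pi_mul]
  obtain rfl : d' = e := by
    by_contra hne
    have h5 := h4 w
    rw [hw, hyw, pi_inv, ← hw, pi_orth hD hd' he hne, hw] at h5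
    exact hw0 h5
  exact ⟨fun x hx => ⟨_, by rw [← h4, hx, map_zero, map_zero, map_zero], (pi_inv' π g _).symm⟩,
    fun x hx => ⟨_, by rw [← h4, hx], (pi_inv' π g _).symm⟩⟩

end Cfsg.Agent.TH.Cl.Big
end
end

-- part: TH/Cl/Big/Main
section
set_option linter.all false
open scoped Cfsg.Agent.FastGrp

-- part: TH/Cl/Big/L
section
/-!
# S3541, classical socles: the box `BoxBigL` (helper57)
-/

set_option autoImplicit false
set_option linter.unusedSectionVars false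

namespace Cfsg.Agent.TH.Cl

open Cfsg.Agent.DS.Cl Cfsg.Agent.DS.Cl.Fwd Cfsg.Agent.SB.Cl Module
open Cfsg.Agent.SB.Fld (prL)

namespace Big

variable {K V : Type} [Field K] [AddCommGroup V] [Module K V]

theorem exists_dual {x z : V} (h : x ∉ K ∙ z) : ∃ f : Dual K V, f x = 1 ∧ f z = 0 := by
  obtain ⟨f, h1, h2⟩ := LinearMap.exists_extend_of_notMem (0 : (K ∙ z) →ₗ[K] K) h 1
  exact ⟨f, h2, LinearMap.congr_fun h1 ⟨z, Submodule.mem_span_singleton_self z⟩⟩

theorem exists_dual_one {x : V} (h : x ≠ 0) : ∃ f : Dual K V, f x = 1 :=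
  (exists_dual (z := 0) (by simpa using h)).imp fun _ h => h.1

/-- a vector of the image of an idempotent outside a small subspace -/
theorem exists_not_mem [Module.Finite K V] {E : End K V} (hE : ∀ x, E (E x) = E x) {P : Submodule K V}
    (h : finrank K P < finrank K (LinearMap.range E)) : ∃ x, E x = x ∧ x ∉ P := by
  by_contra hcon
  push Not at hcon
  refine absurd (Submodule.finrank_mono (s := LinearMap.range E) (t := P) ?_) h.not_ge
  rintro _ ⟨x, rfl⟩
  exact hcon _ (hE x)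

theorem finrank_one_le (x : V) : finrank K (K ∙ x) ≤ 1 := by
  have := finrank_span_le_card (R := K) ({x} : Set V)
  simpa using this

end Big

open Big in
/-- **[C-Big], linear groups** -/
theorem boxBigL : BoxBigL := by
  rintro K _ _ n F G H m p k c ⟨D, hD, hI, e, he, hr⟩
  have hE := pi_idem (π := prL n K) hD he
  have hr' : ∀ z : Fin n → K, ∃ x, prL n K e x = x ∧ x ∉ K ∙ z := fun z =>
    exists_not_mem hE (lt_of_le_of_lt (finrank_one_le z) hr)
  obtain ⟨v₁, h1, h10⟩ := hr' 0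
  replace h10 : v₁ ≠ 0 := by simpa using h10
  obtain ⟨f, hf, hfe, v₂, h20, h2⟩ := exists_other prL_sep hD e
  replace h2 : prL n K e v₂ = 0 := by rw [← h2, pi_orth hD he hf hfe.symm]
  obtain ⟨φ₁, hφ₁⟩ := exists_dual_one (K := K) h10
  obtain ⟨φ₂, hφ₂⟩ := exists_dual_one (K := K) h20
  obtain ⟨φ, a1, a2⟩ : ∃ φ : Dual K (Fin n → K), φ v₁ = -1 ∧ φ v₂ = 1 :=
    ⟨φ₂ - φ₂ ∘ₗ prL n K e - φ₁ ∘ₗ prL n K e, by simp [h1, hφ₁], by simp [h2, hφ₂]⟩
  obtain ⟨g, hg, hg'⟩ := k.exists_lift (w := LinearMap.transvection φ (v₁ + v₂))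
    (by rw [LinearMap.transvection.det, map_add, a1, a2]; ring)
  obtain ⟨u, -, hu, hy⟩ := key prL_sep c hD hI he v₁ ⊤ hg
  have hu1 : prL n K e (prL n K u v₁) = prL n K u v₁ := by rw [hu, h1]
  have hu0 : prL n K u v₁ ≠ 0 := fun h0 => h10 (by rw [← pi_inv (prL n K) u v₁, h0, map_zero])
  have hsurj : ∀ x, ∃ z ∈ (⊤ : Submodule K (Fin n → K)), x = prL n K u z := fun x => ⟨_, trivial, (pi_inv' _ u x).symm⟩
  generalize prL n K u v₁ = e' at hy hu1 hu0
  have main : ∀ ψ : Dual K (Fin n → K), ψ e' = 0 →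
      ψ v₁ • e' ∈ K ∙ v₁ ∧ ∀ x, prL n K e x = x → ψ (x + φ x • v₁) * φ e' = 0 := by
    intro ψ hψ
    obtain ⟨y, hy1, hy2⟩ := k.exists_lift (w := LinearMap.transvection (ψ ∘ₗ prL n K e) e')
      (by rw [LinearMap.transvection.det, LinearMap.comp_apply, hu1, hψ, add_zero])
    have b0 : ∀ x, prL n K y x = x + ψ (prL n K e x) • e' := fun x => by rw [hy2]; rfl
    have b1 : ∀ x, prL n K g x = x + φ x • (v₁ + v₂) := fun x => by rw [hg']; rfl
    obtain ⟨b2, b3⟩ := hy y hy1 (by rw [b0, hu1, hψ, zero_smul, add_zero])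
      (fun x _ => by rw [b0, add_sub_cancel_left]; exact Submodule.mem_span_singleton.2 ⟨_, rfl⟩)
      (fun x => hsurj _) (fun x => by rw [b0, add_sub_cancel_left, map_smul, hu1])
      (fun x hx => by rw [b0, hx, map_zero, zero_smul, add_zero]) v₁ h10 h1
      (by rw [b0, b1, a1]; simp [h2])
    constructor
    · obtain ⟨x', b4, b5⟩ := b2 v₂ h2
      have b6 := congrArg (prL n K e) b5
      simp only [b0, b1, a2, map_add, map_smul, h1, h2, hu1, b4, one_smul, zero_add, add_zero] at b6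
      rw [eq_sub_of_add_eq' b6]
      exact sub_mem (Submodule.mem_span_singleton.2 ⟨_, rfl⟩) (Submodule.mem_span_singleton_self _)
    · intro x hx
      obtain ⟨x', b4, b5⟩ := b3 x hx
      have b6 := congrArg (prL n K e) b5
      simp only [b0, b1, map_add, map_smul, h1, h2, hu1, b4, hx, add_zero] at b5 b6
      have b7 : φ x • v₂ = φ x' • v₂ := by
        rw [smul_add, smul_add] at b5
        linear_combination (exp := 1) b5 - b6
      have b8 := smul_left_injective K h20 b7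
      have b9 := congrArg φ b6
      simp only [map_add, map_smul, smul_eq_mul] at b9 ⊢
      replace b8 : φ x = φ x' := b8
      linear_combination b9 - (1 + φ v₁) * b8
  by_cases h3 : v₁ ∈ K ∙ e'
  · obtain ⟨t, ht⟩ := Submodule.mem_span_singleton.1 h3
    obtain ⟨x, hx, hx'⟩ := hr' e'
    obtain ⟨ψ, b1, b2⟩ := exists_dual hx'
    have b3 := (main ψ b2).2 x hx
    rw [← ht, map_smul, smul_eq_mul] at a1
    rw [← ht, map_add, map_smul, map_smul, b1, b2, smul_zero, smul_zero, add_zero, one_mul] at b3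
    rw [b3, mul_zero] at a1
    exact one_ne_zero (neg_eq_zero.1 a1.symm)
  · obtain ⟨ψ, b1, b2⟩ := exists_dual h3
    have b3 := (main ψ b2).1
    rw [b1, one_smul] at b3
    obtain ⟨t, ht⟩ := Submodule.mem_span_singleton.1 b3
    have ht0 : t ≠ 0 := fun h0 => hu0 (by rw [← ht, h0, zero_smul])
    exact h3 (Submodule.mem_span_singleton.2 ⟨t⁻¹, by rw [← ht, smul_smul, inv_mul_cancel₀ ht0, one_smul]⟩)

end Cfsg.Agent.TH.Cl
end

-- part: TH/Cl/Big/Form
section
/-!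
# S3541, classical socles: invariant frames of spaces with a form (helper57)
-/

set_option autoImplicit false
set_option linter.unusedSectionVars false

namespace Cfsg.Agent.TH.Cl.Big

open Cfsg.Agent.DS.Cl Cfsg.Agent.DS.Cl.Fwd Cfsg.Agent.SB.Cl Module
open Cfsg.Agent.SB.Fld (prU)

variable {K V : Type} [Field K] [Fintype K] [AddCommGroup V] [Module K V] [Finite V] {h : HF K V} {F : FR h.EB}
  {G H : Subgroup (RingAut h.EB)} {m p : ℕ} {D : Finset h.EB} {e : h.EB}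

theorem b_swap_zero {u v : V} (h0 : h.b u v = 0) : h.b v u = 0 := by rw [h.swap u v, h0, map_zero, mul_zero]

theorem b_cross (hs : star e = e) {x z : V} (hx : h.ap e x = x) (hz : h.ap e z = 0) : h.b x z = 0 := by
  rw [← hx, ← h.b_star, hs, hz, h.zero_right]

theorem b_cross' (hs : star e = e) {x z : V} (hx : h.ap e x = x) (hz : h.ap e z = 0) : h.b z x = 0 :=
  b_swap_zero (b_cross hs hx hz)

theorem b_ap (hs : star e = e) {t : V} (ht : h.ap e t = t) (x : V) : h.b (h.ap e x) t = h.b x t := by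
  rw [← h.b_star, hs, ht]

theorem iso_b {u : h.EBˣ} (hu : u ∈ F.Iso) (x y : V) : h.b (h.ap u x) (h.ap u y) = h.b x y :=
  (h.unit_iff u).1 hu.1 x y

theorem ap_ne {u : h.EBˣ} {x : V} (hx : x ≠ 0) : h.ap u x ≠ 0 := fun h0 =>
  hx (by rw [← SB.Tor.ap_inv_ap h u x, h0, map_zero])

theorem ap_idem (hD : Fr D) (he : e ∈ D) (x : V) : h.ap e (h.ap e x) = h.ap e x := pi_idem (π := prU h) hD he x

/-- a pair of vectors of another block -/
theorem exists_pair (hD : Fr D) (he : e ∈ D) : ∃ f ∈ D, ∃ z₁ z₂, h.ap f z₁ = z₁ ∧ h.ap f z₂ = z₂ ∧ h.b z₁ z₂ = 1 ∧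
    ∀ z, h.ap f z = z → h.ap e z = 0 := by
  obtain ⟨f, hf, hfe, w, h0, hw⟩ := exists_other (π := prU h) (fun _ h _ => h) hD e
  obtain ⟨z, hz, hzw⟩ := SB.Tor.Fr.exists_ne h hD hf hw h0
  exact ⟨f, hf, (h.b z w)⁻¹ • z, w, by rw [map_smul, hz], hw, by rw [h.smul_left, inv_mul_cancel₀ hzw],
    fun z hz => SB.Tor.Fr.ap_eq_zero h hD he hf hfe.symm hz⟩

/-- a partner in the same block -/
theorem exists_partner (hD : Fr D) (he : e ∈ D) {x : V} (hx : h.ap e x = x) (h0 : x ≠ 0) (c : K) :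
    ∃ y, h.ap e y = y ∧ h.b y x = c := by
  obtain ⟨z, hz, hzw⟩ := SB.Tor.Fr.exists_ne h hD he hx h0
  exact ⟨(c * (h.b z x)⁻¹) • z, by rw [map_smul, hz], by rw [h.smul_left, mul_assoc, inv_mul_cancel₀ hzw, mul_one]⟩

/-- the key lemma for Eichler transformations -/
theorem keyF (c : Ctx F G H m p) (hD : Fr D) (hI : Inv H D) (he : e ∈ D) {e₀ : V} (h1 : h.ap e e₀ = e₀)
    (h2 : h.b e₀ e₀ = 0) {g : h.EBˣ} (hg : g ∈ (⁅F.Iso, F.Iso⁆ : Subgroup h.EBˣ)) :
    ∃ u ∈ F.Iso, h.ap e (h.ap u e₀) = h.ap u e₀ ∧ ∀ (t : V) (s c : K), h.ap e t = t → h.b t (h.ap u e₀) = 0 →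
      Eich h F (h.ap u e₀) t s c → ∀ w, w ≠ 0 → h.ap e w = w → h.b (h.ap g w) (h.ap u e₀) = 0 → h.b (h.ap g w) t = 0 →
        (∀ x, h.ap e x = 0 → ∃ x', h.ap e x' = 0 ∧ h.ap g x + h.b (h.ap g x) (h.ap u e₀) • t -
          (s * h.b (h.ap g x) t + c * h.b (h.ap g x) (h.ap u e₀)) • h.ap u e₀ = h.ap g x') ∧
        ∀ x, h.ap e x = x → ∃ x', h.ap e x' = x' ∧ h.ap g x + h.b (h.ap g x) (h.ap u e₀) • t -
          (s * h.b (h.ap g x) t + c * h.b (h.ap g x) (h.ap u e₀)) • h.ap u e₀ = h.ap g x' := by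
  obtain ⟨u, hu, a1, a2⟩ := key (π := prU h) (fun _ h _ => h) c hD hI he e₀ (LinearMap.ker (h.lin e₀)) hg
  have a3 : h.ap e (h.ap u e₀) = h.ap u e₀ := (a1 e₀).trans (congrArg _ h1)
  refine ⟨u, hu, a3, ?_⟩
  rintro t s c ht hte ⟨y, hy, hy'⟩ w hw0 hw b1 b2
  have a4 : h.b (h.ap u e₀) (h.ap u e₀) = 0 := by rw [iso_b hu, h2]
  have a5 : ∀ x, h.ap y x - x = h.b x (h.ap u e₀) • t - (s * h.b x t + c * h.b x (h.ap u e₀)) • h.ap u e₀ := fun x => by
    rw [hy']; abel
  have a6 := a2 y hy (show h.ap y (h.ap u e₀) = h.ap u e₀ by rw [hy', a4, b_swap_zero hte]; simp)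
    (fun x hx => show h.ap y (h.ap u x) - h.ap u x ∈ K ∙ h.ap u e₀ by
      rw [a5, iso_b hu, show h.b x e₀ = 0 from hx, zero_smul, zero_sub]
      exact neg_mem (Submodule.mem_span_singleton.2 ⟨_, rfl⟩))
    (fun x => ⟨h.ap (u⁻¹ : h.EBˣ) (h.ap y x - x), show h.b _ e₀ = 0 by
      rw [← iso_b hu, SB.Tor.ap_ap_inv, a5, h.sub_left, h.smul_left, h.smul_left, hte, a4]; simp,
      (SB.Tor.ap_ap_inv h u _).symm⟩)
    (fun x => show h.ap e (h.ap y x - x) = h.ap y x - x by rw [a5, map_sub, map_smul, map_smul, ht, a3])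
    (fun x (hx : h.ap e x = 0) => show h.ap y x = x by
      rw [hy', b_cross' (hD.symm e he) a3 hx, b_cross' (hD.symm e he) ht hx]; simp)
    w hw0 hw (show h.ap y (h.ap g w) = h.ap g w by rw [hy', b1, b2]; simp)
  simp only [← hy']
  exact a6

variable (h) in
/-- the part of the block which is moved out -/
def out (e : h.EB) (g : h.EBˣ) : Submodule K V := (LinearMap.ker (h.ap e)).map (h.ap e ∘ₗ h.ap g)

theorem mem_out {g : h.EBˣ} {z : V} (hz : h.ap e z = 0) : h.ap e (h.ap g z) ∈ out h e g := ⟨z, hz, rfl⟩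

/-- the exchange of parts of two blocks -/
theorem swap (c : Ctx F G H m p) (hD : Fr D) (hI : Inv H D) (he : e ∈ D) {e₀ : V} (h1 : h.ap e e₀ = e₀)
    (h2 : h.b e₀ e₀ = 0) {g : h.EBˣ} (hg : g ∈ (⁅F.Iso, F.Iso⁆ : Subgroup h.EBˣ)) {w : V} (hw0 : w ≠ 0)
    (hw : h.ap e w = w) (hgw : h.ap e (h.ap g w) = 0) :
    ∃ u ∈ F.Iso, h.ap e (h.ap u e₀) = h.ap u e₀ ∧ ∀ (t : V) (s c : K), h.ap e t = t → h.b t (h.ap u e₀) = 0 →
      Eich h F (h.ap u e₀) t s c → ∀ x ∈ out h e g,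
        h.b x (h.ap u e₀) • t - (s * h.b x t + c * h.b x (h.ap u e₀)) • h.ap u e₀ ∈ out h e g := by
  obtain ⟨u, hu, a1, a2⟩ := keyF c hD hI he h1 h2 hg
  refine ⟨u, hu, a1, ?_⟩
  rintro t s c ht hte hE _ ⟨z, hz, rfl⟩
  have hs := hD.symm e he
  obtain ⟨z', b1, b2⟩ := (a2 t s c ht hte hE w hw0 hw (b_cross' hs a1 hgw) (b_cross' hs ht hgw)).1 z hz
  have b3 := congrArg (h.ap e) b2
  rw [map_sub, map_add, map_smul, map_smul, ht, a1, add_sub_assoc, ← eq_sub_iff_add_eq'] at b3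
  rw [LinearMap.comp_apply, b_ap hs a1, b_ap hs ht, b3]
  exact sub_mem (mem_out b1) (mem_out hz)

/-- a non-degenerate subspace invariant under the Eichler transformations with centre `e'` -/
theorem mem_sup {P : Submodule K V} {e' : V} (h0 : e' ≠ 0) (hP : ∀ x ∈ P, h.ap e x = x) (hP0 : ∃ x ∈ P, x ≠ 0)
    (hnd : ∀ v ∈ P, (∀ x ∈ P, h.b x v = 0) → v = 0)
    (hE : ∀ t, h.ap e t = t → h.b t e' = 0 → ∃ s c : K, s ≠ 0 ∧ ∀ x ∈ P,
      h.b x e' • t - (s * h.b x t + c * h.b x e') • e' ∈ P) {v : V} (hv : h.ap e v = v) : v ∈ P ⊔ K ∙ e' := by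
  by_cases hx : ∀ x ∈ P, h.b x e' = 0
  · exfalso
    obtain ⟨t, ht, ht0⟩ := hP0
    obtain ⟨s, c, hs, a1⟩ := hE t (hP t ht) (hx t ht)
    refine ht0 (hnd t ht fun x hxP => not_not.1 fun a2 => h0 (hnd e' ?_ hx))
    have a3 := a1 x hxP
    rw [hx x hxP, zero_smul, zero_sub, mul_zero, add_zero, neg_mem_iff] at a3
    exact (P.smul_mem_iff (mul_ne_zero hs a2)).1 a3
  push Not at hx
  obtain ⟨x, hxP, hx⟩ := hx
  obtain ⟨s, c, -, a1⟩ := hE (v - (h.b v e' / h.b x e') • x) (by rw [map_sub, map_smul, hv, hP x hxP])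
    (by rw [h.sub_left, h.smul_left, div_mul_cancel₀ _ hx, sub_self])
  have a2 := (Submodule.sub_mem_iff_left _ (Submodule.mem_sup_right (Submodule.mem_span_singleton.2 ⟨_, rfl⟩))).1
    (Submodule.mem_sup_left (T := K ∙ e') (a1 x hxP))
  rw [Submodule.smul_mem_iff _ hx] at a2
  have a3 := add_mem a2 (Submodule.mem_sup_left (T := K ∙ e') (P.smul_mem (h.b v e' / h.b x e') hxP))
  rwa [sub_add_cancel] at a3

theorem finrank_two_le (x y : V) : finrank K (Submodule.span K {x, y}) ≤ 2 := by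
  classical
  have h1 := finrank_span_le_card (R := K) ({x, y} : Set V)
  rw [Set.toFinset_insert, Set.toFinset_singleton] at h1
  exact h1.trans Finset.card_le_two

theorem exists_not_mem_two (hD : Fr D) (he : e ∈ D) (hr : 3 ≤ rk h e) (x y : V) :
    ∃ v, h.ap e v = v ∧ v ∉ Submodule.span K {x, y} :=
  have : Module.Finite K V := Module.Finite.of_finite
  exists_not_mem (ap_idem hD he) (lt_of_le_of_lt (finrank_two_le x y) hr)

/-- **exchange of vectors** : `r` is the reflection exchanging `u` and `w`, and `k` preserves the block -/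
theorem swap_vec (hs : star e = e) {u w : V} (hu : h.ap e u = u) (hw : h.ap e w = 0) (hn : h.b u u ≠ 0)
    (hwu : h.b w w = h.b u u) {g : h.EBˣ}
    (hg : ∀ z, h.ap e z = 0 → h.ap g z = h.ap (SB.Tor.qr h (h.b u u)⁻¹ (u - w)) z) : out h e g = K ∙ u := by
  have a1 : ∀ z, h.ap e z = 0 → h.ap e (h.ap g z) = ((h.b u u)⁻¹ * h.b z w) • u := fun z hz => by
    rw [hg z hz, SB.Tor.ap_qr, map_sub, map_smul, map_sub, hz, hu, hw, h.sub_right, b_cross' hs hu hz]
    simp
  apply le_antisymm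
  · rintro _ ⟨z, hz, rfl⟩
    exact Submodule.mem_span_singleton.2 ⟨_, (a1 z hz).symm⟩
  · rw [Submodule.span_singleton_le_iff_mem]
    have a2 := mem_out (g := g) hw
    rwa [a1 w hw, hwu, inv_mul_cancel₀ hn, one_smul] at a2

/-- **exchange of planes** -/
theorem alt_false (halt : ∀ v, h.b v v = 0) (c : Ctx F G H m p) (hD : Fr D) (hI : Inv H D) (he : e ∈ D)
    (hr : 3 ≤ rk h e) {e₀ : V} (h0 : e₀ ≠ 0) (h1 : h.ap e e₀ = e₀)
    (hE : ∀ u ∈ F.Iso, ∀ t, h.b t (h.ap u e₀) = 0 → ∃ s c : K, s ≠ 0 ∧ Eich h F (h.ap u e₀) t s c)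
    {x₁ x₂ z₁ z₂ : V} (hx₁ : h.ap e x₁ = x₁) (hx₂ : h.ap e x₂ = x₂) (hz₁ : h.ap e z₁ = 0) (hz₂ : h.ap e z₂ = 0)
    (hx : h.b x₂ x₁ = 1) (hz : h.b z₁ z₂ = 1) {a : K} (hg : Eich h F (x₁ + z₁) (x₂ + z₂) (-1) a) : False := by
  have hsw : ∀ u v, h.b v u = -h.b u v := fun u v => by
    have h1 := halt (u + v)
    rw [h.add_left, h.add_right, h.add_right, halt, halt] at h1
    linear_combination h1
  have hs := hD.symm e he
  obtain ⟨g, hg, hg'⟩ := hg
  have hx' : h.b x₁ x₂ = -1 := by rw [hsw, hx]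
  have hx0 : x₁ ≠ 0 := fun h0 => by
    rw [h0, h.zero_right] at hx
    exact zero_ne_one hx
  have a1 : ∀ z, h.ap e z = 0 → h.ap e (h.ap g z) = (h.b z z₂ - a * h.b z z₁) • x₁ + h.b z z₁ • x₂ := fun z hz => by
    simp only [hg', map_sub, map_add, map_smul, hz, hx₁, hx₂, hz₁, hz₂, h.add_right, b_cross' hs hx₁ hz,
      b_cross' hs hx₂ hz]
    module
  have a2 : x₁ ∈ out h e g := by
    have := mem_out (g := g) hz₁
    rwa [a1 _ hz₁, hz, halt, mul_zero, sub_zero, one_smul, zero_smul, add_zero] at this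
  have a3 : x₂ ∈ out h e g := by
    have := sub_mem ((out h e g).smul_mem a a2) (mem_out (g := g) hz₂)
    rw [a1 _ hz₂, halt, hsw z₁ z₂, hz] at this
    convert this using 1
    module
  have a4 : ∀ v ∈ out h e g, ∃ α β : K, v = α • x₁ + β • x₂ := by
    rintro _ ⟨z, hz, rfl⟩
    exact ⟨_, _, a1 z hz⟩
  obtain ⟨u, hu, b1, b2⟩ := swap c hD hI he h1 (halt _) hg hx0 hx₁ (by
    simp only [hg', map_sub, map_add, map_smul, hx₁, hx₂, hz₁, hz₂, h.add_right, b_cross hs hx₁ hz₁,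
      b_cross hs hx₁ hz₂, halt, hx']
    module)
  have b3 : ∀ v, h.ap e v = v → ∃ α β γ : K, v = α • x₁ + β • x₂ + γ • h.ap u e₀ := fun v hv => by
    obtain ⟨y, hy, z, hz, rfl⟩ := Submodule.mem_sup.1 (mem_sup (P := out h e g) (ap_ne (u := u) h0)
      (by
        rintro _ ⟨z, -, rfl⟩
        exact ap_idem hD he _) ⟨x₁, a2, hx0⟩ (fun v hv hv' => by
        obtain ⟨α, β, rfl⟩ := a4 v hv
        have b4 := hv' _ a2
        have b5 := hv' _ a3
        simp only [h.add_right, h.smul_right, halt, hx, hx', mul_zero, zero_add, add_zero, mul_one, mul_neg,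
          neg_eq_zero, map_eq_zero] at b4 b5
        rw [b4, b5, zero_smul, zero_smul, add_zero]) (fun t ht hte => by
        obtain ⟨s, c, hs0, hc⟩ := hE u hu t hte
        exact ⟨s, c, hs0, b2 t s c ht hte hc⟩) hv)
    obtain ⟨α, β, rfl⟩ := a4 y hy
    obtain ⟨γ, rfl⟩ := Submodule.mem_span_singleton.1 hz
    exact ⟨α, β, γ, rfl⟩
  generalize h.ap u e₀ = e' at b1 b3
  obtain ⟨v, hv, hv'⟩ := exists_not_mem_two hD he hr x₁ x₂
  have b4 : e' + h.b e' x₂ • x₁ - h.b e' x₁ • x₂ = 0 := by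
    by_contra hne
    obtain ⟨y, hy, hy'⟩ := exists_partner hD he (by rw [map_sub, map_add, map_smul, map_smul, b1, hx₁, hx₂]) hne 1
    obtain ⟨α, β, γ, rfl⟩ := b3 y hy
    rw [hsw] at hy'
    simp only [h.add_left, h.sub_left, h.smul_left, h.add_right, h.smul_right, halt, hx, hx', hsw e' x₁,
      hsw e' x₂] at hy'
    exact zero_ne_one (by linear_combination hy')
  obtain ⟨α, β, γ, rfl⟩ := b3 v hv
  refine hv' (Submodule.mem_span_pair.2 ⟨α - γ * h.b e' x₂, β + γ * h.b e' x₁, ?_⟩)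
  linear_combination (norm := module) (-γ) • b4

end Cfsg.Agent.TH.Cl.Big
end

-- part: TH/Cl/Big/Main
section
/-!
# S3541, classical socles: the boxes `BoxBigU`, `BoxBigSp`, `BoxBigO` (helper57)
-/

set_option autoImplicit false
set_option linter.unusedSectionVars false

namespace Cfsg.Agent.TH.Cl

open Cfsg.Agent.DS.Cl Cfsg.Agent.DS.Cl.Fwd Cfsg.Agent.SB.Cl Module
open Cfsg.Agent.ClassicalGeometry.InvolutiveNorm Cfsg.Agent.LieClassical
open Cfsg.Agent.SB.Tor (qr ap_qr isoU isoU_ms qr_form tau_self)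

namespace Big

variable {K V : Type} [Field K] [Fintype K] [AddCommGroup V] [Module K V] [Finite V] {h : HF K V} {F : FR h.EB}
  {D : Finset h.EB} {e : h.EB}

theorem exists_norm (hU : IsU h) {v : V} (hv : h.b v v ≠ 0) {n : K} (hn : h.τ n = n) :
    ∃ c : K, h.b (c • v) (c • v) = n := by
  obtain ⟨c, hc⟩ := exists_mul_sigma_eq (IsU.tau_ne hU) h.τ_τ (a := n / h.b v v) (by rw [map_div₀, hn, tau_self hU.1])
  exact ⟨c, by rw [h.smul_left, h.smul_right, ← mul_assoc, hc, div_mul_cancel₀ _ hv]⟩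

theorem exists_aniso (hU : IsU h) (hD : Fr D) (he : e ∈ D) : ∃ v, h.ap e v = v ∧ h.b v v ≠ 0 := by
  by_contra hcon
  push Not at hcon
  obtain ⟨x, hx, hx0⟩ := SB.Tor.exists_fix (hD.idem e he) (hD.ne e he)
  obtain ⟨θ, hθ⟩ := exists_add_sigma_ne_zero (IsU.tau_ne hU)
  obtain ⟨y, hy, hyx⟩ := exists_partner hD he hx hx0 θ
  have h1 := hcon (x + y) (by rw [map_add, hx, hy])
  rw [h.add_left, h.add_right, h.add_right, hcon x hx, hcon y hy, IsU.swap hU y x, hyx] at h1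
  exact hθ (by linear_combination h1)

theorem exists_iso (hU : IsU h) (hD : Fr D) (he : e ∈ D) (hr : 2 ≤ rk h e) :
    ∃ v, v ≠ 0 ∧ h.ap e v = v ∧ h.b v v = 0 := by
  have : Module.Finite K V := Module.Finite.of_finite
  obtain ⟨u, hu, hn⟩ := exists_aniso hU hD he
  obtain ⟨x, hx, hx'⟩ := exists_not_mem (ap_idem hD he) (lt_of_le_of_lt (finrank_one_le u) hr)
  have h1 : h.b (x - (h.b x u / h.b u u) • u) u = 0 := by
    rw [h.sub_left, h.smul_left, div_mul_cancel₀ _ hn, sub_self]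
  have h2 : h.ap e (x - (h.b x u / h.b u u) • u) = x - (h.b x u / h.b u u) • u := by rw [map_sub, map_smul, hx, hu]
  have h3 : x - (h.b x u / h.b u u) • u ≠ 0 := fun h0 =>
    hx' (Submodule.mem_span_singleton.2 ⟨_, (sub_eq_zero.1 h0).symm⟩)
  generalize x - (h.b x u / h.b u u) • u = y at h1 h2 h3
  by_cases h4 : h.b y y = 0
  · exact ⟨y, h3, h2, h4⟩
  obtain ⟨c, hc⟩ := exists_norm hU h4 (n := -h.b u u) (by rw [map_neg, tau_self hU.1])
  have h5 : h.b (c • y) u = 0 := by rw [h.smul_left, h1, mul_zero]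
  refine ⟨u + c • y, fun h0 => hn ?_, by rw [map_add, map_smul, hu, h2], ?_⟩
  · have h6 := h.add_left u (c • y) u
    rwa [h0, h.zero_left, h5, add_zero, eq_comm] at h6
  · rw [h.add_left, h.add_right, h.add_right, hc, h5, b_swap_zero h5]
    ring

theorem det_qr (κ : K) (v : V) : LinearMap.det (h.ap (qr h κ v)) = 1 - κ * h.b v v := by
  have : Module.Finite K V := Module.Finite.of_finite
  have h1 : h.ap (qr h κ v) = LinearMap.transvection (-(κ • h.lin v)) v := LinearMap.ext fun x => by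
    rw [ap_qr, LinearMap.transvection.apply, sub_eq_add_neg, ← neg_smul]
    rfl
  rw [h1, LinearMap.transvection.det, sub_eq_add_neg]
  rfl

theorem b_diff (hs : star e = e) {u w : V} (hu : h.ap e u = u) (hw : h.ap e w = 0) (hwu : h.b w w = h.b u u) :
    h.b (u - w) (u - w) = 2 * h.b u u ∧ h.b u (u - w) = h.b u u := by
  simp only [h.sub_left, h.sub_right, b_cross hs hu hw, b_cross' hs hu hw, hwu]
  constructor <;> ring

theorem iso_span {u v : V} (hn : h.b u u ≠ 0) (hv : h.b v v = 0) {a : K} (ha : a ≠ 0) (h1 : a • v ∈ K ∙ u) : v = 0 := by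
  obtain ⟨t, rfl⟩ := Submodule.mem_span_singleton.1 ((Submodule.smul_mem_iff _ ha).1 h1)
  rw [h.smul_left, h.smul_right] at hv
  obtain rfl : t = 0 := by simpa [hn] using hv
  rw [zero_smul]

variable {Q : QuadraticForm K V}

theorem exists_sing (hD : Fr D) (he : e ∈ D) (hr : 3 ≤ rk h e) : ∃ v, v ≠ 0 ∧ h.ap e v = v ∧ Q v = 0 := by
  obtain ⟨_, ⟨x, rfl⟩, h1, h2⟩ := OrthFinite.exists_sing_mem (Q := Q) (LinearMap.range (h.ap e)) hr
  exact ⟨_, h1, ap_idem hD he x, h2⟩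

theorem exists_val (hO : IsO h F Q) (hD : Fr D) (he : e ∈ D) (hr : 3 ≤ rk h e) (c : K) :
    ∃ v, v ≠ 0 ∧ h.ap e v = v ∧ Q v = c := by
  obtain ⟨x, h0, hx, hQ⟩ := exists_sing (Q := Q) hD he hr
  obtain ⟨y, hy, hyx⟩ := exists_partner hD he hx h0 1
  have h1 : h.b x x = 0 := by rw [SB.Tor.O_self hO, hQ, mul_zero]
  refine ⟨y + (c - Q y) • x, fun h2 => ?_, by rw [map_add, map_smul, hx, hy], ?_⟩
  · have h3 := h.add_left y ((c - Q y) • x) x
    rw [h2, h.zero_left, hyx, h.smul_left, h1, mul_zero, add_zero] at h3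
    exact zero_ne_one h3
  · rw [SB.Tor.O_add hO, QuadraticMap.map_smul, hQ, h.smul_right, hO.1, hyx]
    simp

theorem Q_cross (hO : IsO h F Q) (hs : star e = e) {x z : V} (hx : h.ap e x = x) (hz : h.ap e z = 0) :
    Q (x + z) = Q x + Q z := by rw [SB.Tor.O_add hO, b_cross hs hx hz, add_zero]

end Big

open Big

/-- **[C-Big], unitary groups** -/
theorem boxBigU : BoxBigU := by
  rintro K V _ _ _ _ _ h F q G H m p k c ⟨D, hD, hI, e, he, hr⟩
  have hs := hD.symm e he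
  obtain ⟨e₀, h0, h1, h2⟩ := exists_iso k.u hD he hr
  obtain ⟨f, hf, -, -, -, -, -, hfe⟩ := exists_pair hD he
  obtain ⟨u, hu, hn⟩ := exists_aniso k.u hD he
  have hτ := tau_self k.u.1 u
  obtain ⟨w, hw, hwu⟩ : ∃ w, h.ap e w = 0 ∧ h.b w w = h.b u u := by
    obtain ⟨w, hw, hn'⟩ := exists_aniso k.u hD hf
    obtain ⟨a, ha⟩ := exists_norm k.u hn' hτ
    exact ⟨a • w, by rw [map_smul, hfe w hw, smul_zero], ha⟩
  obtain ⟨a1, a2⟩ := b_diff hs hu hw hwu
  have b1 := qr_form h k.u.1 (κ := (h.b u u)⁻¹) (v := u - w) (by rw [map_inv₀, hτ, a1]; field_simp; ring)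
  have b2 := qr_form h k.u.1 (κ := 2 * (h.b u u)⁻¹) (v := u) (by rw [map_mul, map_inv₀, hτ, map_ofNat]; field_simp; ring)
  have hg' : ∀ x, h.ap (isoU h _ b1 * isoU h _ b2 : h.EBˣ) x =
      h.ap (qr h (h.b u u)⁻¹ (u - w)) (h.ap (qr h (2 * (h.b u u)⁻¹) u) x) := fun x => rfl
  have hg : isoU h _ b1 * isoU h _ b2 ∈ (⁅F.Iso, F.Iso⁆ : Subgroup _) :=
    k.mem_comm (mul_mem (mem_Iso_max k.L (isoU_ms _ _ _)) (mem_Iso_max k.L (isoU_ms _ _ _))) (by
      change LinearMap.det (h.ap (qr h (h.b u u)⁻¹ (u - w)) * h.ap (qr h (2 * (h.b u u)⁻¹) u)) = 1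
      rw [map_mul, det_qr, det_qr, a1]
      field_simp
      ring)
  generalize isoU h _ b1 * isoU h _ b2 = g at hg hg'
  have hu0 : u ≠ 0 := fun h0 => hn (by rw [h0, h.zero_left])
  obtain ⟨y, hy, c1, c2⟩ := swap c hD hI he h1 h2 hg hu0 hu (by
    rw [hg', ap_qr h _ u, mul_assoc, inv_mul_cancel₀ hn, map_sub, map_smul, ap_qr, a2, inv_mul_cancel₀ hn]
    simp [hw])
  rw [swap_vec hs hu hw hn hwu fun z hz => by rw [hg', ap_qr h _ u, b_cross' hs hu hz, mul_zero, zero_smul, sub_zero]]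
    at c2
  have c3 : h.b (h.ap y e₀) (h.ap y e₀) = 0 := by rw [iso_b hy, h2]
  refine ap_ne (u := y) h0 ?_
  generalize h.ap y e₀ = e' at c1 c2 c3
  by_cases c4 : h.b u e' = 0
  · obtain ⟨a, ha⟩ := exists_add_sigma_eq (IsU.tau_ne k.u) h.τ_τ hτ
    have c5 := c2 u 1 a hu c4 (k.eich c3 c4 (by rw [add_comm, ha])) u (Submodule.mem_span_singleton_self u)
    rw [c4, zero_smul, zero_sub, mul_zero, add_zero, one_mul, neg_mem_iff] at c5
    exact iso_span hn c3 hn c5
  · obtain ⟨θ, hθ⟩ := k.u.2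
    have c5 := c2 0 1 (h.τ θ - θ) (map_zero _) (h.zero_left _) (k.eich c3 (h.zero_left _)
      (by rw [map_sub, h.τ_τ, h.zero_left]; ring)) u (Submodule.mem_span_singleton_self u)
    rw [smul_zero, zero_sub, h.zero_right, mul_zero, zero_add, neg_mem_iff] at c5
    exact iso_span hn c3 (mul_ne_zero (sub_ne_zero.2 hθ) c4) c5

/-- **[C-Big], orthogonal groups** -/
theorem boxBigO : BoxBigO := by
  rintro K V _ _ _ _ _ h F Q G H m p k c ⟨D, hD, hI, e, he, hr⟩
  have hs := hD.symm e he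
  obtain ⟨e₀, h0, h1, h2⟩ := exists_sing (Q := Q) hD he hr
  have hE : ∀ u ∈ F.Iso, ∀ t, h.b t (h.ap u e₀) = 0 → ∃ s c : K, s ≠ 0 ∧ Eich h F (h.ap u e₀) t s c :=
    fun u hu t ht => ⟨1, _, one_ne_zero, k.eich (by rw [(SB.Tor.mem_Iso_O k.o u).1 hu, h2]) ht⟩
  obtain ⟨f, hf, z₁, z₂, hz₁, hz₂, hz, hfe⟩ := exists_pair hD he
  by_cases hK : (2 : K) = 0
  · have halt : ∀ v, h.b v v = 0 := fun v => by rw [SB.Tor.O_self k.o, hK, zero_mul]
    obtain ⟨x₁, hx0, hx₁, hQ⟩ := exists_val k.o hD he hr (-Q z₁)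
    obtain ⟨x₂, hx₂, hx⟩ := exists_partner hD he hx₁ hx0 1
    refine alt_false halt c hD hI he hr h0 h1 hE hx₁ hx₂ (hfe _ hz₁) (hfe _ hz₂) hx hz (a := Q (x₂ + z₂)) ?_
    rw [show (-1 : K) = 1 by linear_combination -hK]
    refine k.eich (by rw [Q_cross k.o hs hx₁ (hfe _ hz₁), hQ, neg_add_cancel]) ?_
    rw [h.add_left, h.add_right, h.add_right, hx, b_cross hs hx₂ (hfe _ hz₁), b_cross' hs hx₁ (hfe _ hz₂),
      SB.Tor.O_symm k.o, hz]
    linear_combination hK
  obtain ⟨w, hw, hQw⟩ := SB.Tor.exists_nonsing k.o hD hf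
  replace hw := hfe w hw
  obtain ⟨u, hu0, hu, hQu⟩ := exists_val k.o hD he hr (Q w)
  obtain ⟨u', -, hu', hQu'⟩ := exists_val k.o hD he hr (2 * Q w)
  have hb : h.b u u = 2 * Q w := by rw [SB.Tor.O_self k.o, hQu]
  have hn : h.b u u ≠ 0 := by rw [hb]; exact mul_ne_zero hK hQw
  have hwu : h.b w w = h.b u u := by rw [hb, SB.Tor.O_self k.o]
  have a1 : Q (u - w) = h.b u u := by
    rw [sub_eq_add_neg, Q_cross k.o hs hu (by rw [map_neg, hw, neg_zero]), QuadraticMap.map_neg, hQu, hb, two_mul]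
  have a2 : Q u' = h.b u u := hQu'.trans hb.symm
  obtain ⟨g, hg, hg'⟩ := k.mem_comm (k.good.refl_mul_refl_mem (v := u') (v' := u - w) (by rwa [a2]) (by rwa [a1])
    (a2.trans a1.symm))
  have a3 : ∀ x, h.ap g x = h.ap (qr h (h.b u u)⁻¹ (u - w)) (OrthCore.refl Q u' (by rwa [a2]) x) := fun x => by
    rw [hg', LinearEquiv.mul_apply, OrthCore.refl_apply (v := u - w), ap_qr, a1, k.o.2.1 _ (u - w),
      QuadraticMap.polar_comm]
  have a4 : ∀ x, OrthCore.refl Q u' (by rwa [a2]) x = x - ((Q u')⁻¹ * h.b x u') • u' := fun x => by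
    rw [OrthCore.refl_apply, k.o.2.1, QuadraticMap.polar_comm]
  obtain ⟨y, hy, c1, c2⟩ := swap c hD hI he h1 (by rw [SB.Tor.O_self k.o, h2, mul_zero]) hg
    (w := OrthCore.refl Q u' (by rwa [a2]) u) (by simpa using hu0) (by rw [a4, map_sub, map_smul, hu, hu']) (by
      rw [a3, ← LinearEquiv.mul_apply, OrthCore.refl_mul_self, LinearEquiv.coe_one, id, ap_qr, (b_diff hs hu hw hwu).2,
        inv_mul_cancel₀ hn]
      simp [hw])
  rw [swap_vec hs hu hw hn hwu fun z hz => by rw [a3, a4, b_cross' hs hu' hz, mul_zero, zero_smul, sub_zero]] at c2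
  obtain ⟨v, hv, hv'⟩ := exists_not_mem_two hD he hr u (h.ap y e₀)
  rw [Submodule.span_insert] at hv'
  refine hv' (mem_sup (ap_ne h0) ?_ ⟨u, Submodule.mem_span_singleton_self u, hu0⟩ ?_ (fun t ht hte => ?_) hv)
  · intro x hx
    obtain ⟨a, rfl⟩ := Submodule.mem_span_singleton.1 hx
    rw [map_smul, hu]
  · intro x hx hx'
    obtain ⟨a, rfl⟩ := Submodule.mem_span_singleton.1 hx
    have := hx' u (Submodule.mem_span_singleton_self u)
    rw [h.smul_right] at this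
    obtain rfl : a = 0 := by simpa [hn] using this
    rw [zero_smul]
  · obtain ⟨s, a, hs0, ha⟩ := hE y hy t hte
    exact ⟨s, a, hs0, c2 t s a ht hte ha⟩

/-- **[C-Big], symplectic groups** -/
theorem boxBigSp : BoxBigSp := by
  rintro K V _ _ _ _ _ h F j G H m p k c ⟨D, hD, hI⟩
  have : Module.Finite K V := Module.Finite.of_finite
  obtain ⟨e, he⟩ := Finset.card_pos.1 (lt_of_lt_of_le two_pos hD.two)
  have hs := hD.symm e he
  have halt := k.sp.2.1
  have hsw := IsSp.swap k.sp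
  obtain ⟨x₁, hx₁, hx0⟩ := SB.Tor.exists_fix (hD.idem e he) (hD.ne e he)
  obtain ⟨x₂, hx₂, hx⟩ := exists_partner hD he hx₁ hx0 1
  have hx' : h.b x₁ x₂ = -1 := by rw [hsw, hx]
  obtain ⟨f, hf, z₁, z₂, hz₁, hz₂, hz, hfe⟩ := exists_pair hD he
  replace hz₁ := hfe _ hz₁
  replace hz₂ := hfe _ hz₂
  by_cases hr : 3 ≤ rk h e
  · refine alt_false halt c hD hI he hr hx0 hx₁ (fun u _ t ht => ⟨-1, 0, neg_ne_zero.2 one_ne_zero, k.eich ht 0⟩)
      hx₁ hx₂ hz₁ hz₂ hx hz (a := 0) (k.eich ?_ 0)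
    rw [h.add_left, h.add_right, h.add_right, hx, b_cross hs hx₂ hz₁, b_cross' hs hx₁ hz₂, hsw z₁ z₂, hz]
    ring
  have hind : SB.Tor.Ind K x₁ x₂ := fun a b hab => by
    have a1 := congrArg (h.b · x₁) hab
    have a2 := congrArg (h.b · x₂) hab
    simp only [h.add_left, h.smul_left, halt, hx, hx', h.zero_left] at a1 a2
    exact ⟨by linear_combination -a2, by linear_combination a1⟩
  have hr2 : rk h e = 2 := by
    have a1 : LinearIndependent K ![(⟨x₁, x₁, hx₁⟩ : LinearMap.range (h.ap e)), ⟨x₂, x₂, hx₂⟩] :=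
      LinearIndependent.pair_iff.2 fun a b hab => hind a b (congrArg Subtype.val hab)
    have a2 : 2 ≤ rk h e := (Fintype.card_fin 2).ge.trans a1.fintype_card_le_finrank
    omega
  obtain ⟨z, z', hz0, hz0', hzz, hzi⟩ : ∃ z z', h.ap e z = 0 ∧ h.ap e z' = 0 ∧ h.b z z' ≠ 1 ∧ SB.Tor.Ind K z z' := by
    have hz1 : z₁ ≠ 0 := fun h0 => by
      rw [h0, h.zero_left] at hz
      exact zero_ne_one hz
    by_cases hj : j = 2
    · obtain ⟨μ, h0, h1⟩ : ∃ μ : K, μ ≠ 0 ∧ μ ≠ 1 := by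
        classical
        by_contra hcon
        push Not at hcon
        have a1 : (Finset.univ : Finset K) ⊆ {0, 1} := fun a _ => by
          by_cases ha : a = 0
          · simp [ha]
          · simp [hcon a ha]
        have a2 := (Finset.card_le_card a1).trans Finset.card_le_two
        have a3 := k.ne hj
        rw [Finset.card_univ] at a2
        omega
      refine ⟨z₁, μ • z₂, hz₁, by rw [map_smul, hz₂, smul_zero], by rwa [h.smul_right, k.sp.1, hz, mul_one],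
        SB.Tor.ind_of_ne hz1 fun a ha => h0 ?_⟩
      have a1 := congrArg (h.b z₁) ha
      rwa [h.smul_right, h.smul_right, halt, hz, mul_zero, mul_one, k.sp.1] at a1
    · have a1 := LinearMap.finrank_range_add_finrank_ker (h.ap e)
      have a2 := k.dim
      have a3 := k.two
      have a4 : finrank K (LinearMap.range (h.ap e)) = 2 := hr2
      obtain ⟨v, hv, hv'⟩ : ∃ v, h.ap e v = 0 ∧ v ∉ Submodule.span K {z₁, z₂} := by
        by_contra hcon
        push Not at hcon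
        have a5 := (Submodule.finrank_mono (s := LinearMap.ker (h.ap e)) hcon).trans (finrank_two_le z₁ z₂)
        omega
      refine ⟨z₁, v - h.b z₁ v • z₂, hz₁, by rw [map_sub, map_smul, hv, hz₂, smul_zero, sub_zero], ?_,
        SB.Tor.ind_of_ne hz1 fun a ha => hv' (Submodule.mem_span_pair.2 ⟨a, h.b z₁ v, by rw [← ha, sub_add_cancel]⟩)⟩
      rw [h.sub_right, h.smul_right, k.sp.1, hz, mul_one, sub_self]
      exact zero_ne_one
  obtain ⟨r, hr1, hr'⟩ := k.eich (e := z) (t := x₂) (b_cross hs hx₂ hz0) 0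
  obtain ⟨r', hr1', hr''⟩ := k.eich (e := z') (t := x₁) (b_cross hs hx₁ hz0') 0
  have g0 : ∀ a b : K, h.ap (r' * r : h.EBˣ) (a • x₁ + b • x₂) =
      (a * (1 - h.b z z')) • x₁ + b • x₂ + ((-a) • z + b • z') := fun a b => by
    simp only [Units.val_mul, h.ap_mul, hr', hr'', h.add_left, h.sub_left, h.smul_left, halt, hx, hx',
      b_cross hs hx₁ hz0, b_cross hs hx₂ hz0, b_cross hs hx₁ hz0', b_cross hs hx₂ hz0', b_cross' hs hx₁ hz0]
    module
  obtain ⟨u, hu, b1, b2⟩ := keyF c hD hI he hx₁ (halt _) (mul_mem hr1' hr1)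
  have b0 := ap_ne (h := h) (u := u) hx0
  generalize h.ap u x₁ = e' at b0 b1 b2
  generalize r' * r = g at g0 b2
  obtain ⟨w, hw0, hw, hw'⟩ : ∃ w, w ≠ 0 ∧ h.ap e w = w ∧ h.b (h.ap g w) e' = 0 := by
    by_cases b3 : h.b (h.ap g x₁) e' = 0
    · exact ⟨x₁, hx0, hx₁, b3⟩
    · refine ⟨h.b (h.ap g x₂) e' • x₁ + (-h.b (h.ap g x₁) e') • x₂, fun h0 => b3 (neg_eq_zero.1 (hind _ _ h0).2),
        by rw [map_add, map_smul, map_smul, hx₁, hx₂], ?_⟩
      rw [map_add, map_smul, map_smul, h.add_left, h.smul_left, h.smul_left]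
      ring
  have b3 : ∀ x, h.ap e x = x → h.b (h.ap g x) e' = 0 := fun x hxe => by
    obtain ⟨x', b4, b5⟩ := (b2 0 (-1) 1 (map_zero _) (h.zero_left _) (k.eich (h.zero_left _) 1) w hw0 hw hw'
      (h.zero_right _)).2 x hxe
    obtain ⟨a, b, hab⟩ := SB.Tor.span_two hr2 hx₁ hx₂ hind (z := x - x') (by rw [map_sub, hxe, b4])
    rw [smul_zero, add_zero, h.zero_right, mul_zero, zero_add, one_mul, sub_eq_iff_eq_add', ← sub_eq_iff_eq_add,
      ← map_sub, ← hab, g0] at b5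
    have b6 := congrArg (h.ap e) b5
    simp only [map_add, map_smul, hx₁, hx₂, hz0, hz0', b1, smul_zero, add_zero] at b6
    rw [b6, add_eq_left] at b5
    obtain ⟨b7, rfl⟩ := hzi _ _ b5
    rw [neg_eq_zero.1 b7, zero_mul, zero_smul, zero_smul, add_zero] at b6
    exact (smul_eq_zero_iff_left b0).1 b6.symm
  obtain ⟨y, hy, hy'⟩ := exists_partner hD he b1 b0 1
  obtain ⟨a, b, rfl⟩ := SB.Tor.span_two hr2 hx₁ hx₂ hind hy
  have b4 := b3 ((a / (1 - h.b z z')) • x₁ + b • x₂) (by rw [map_add, map_smul, map_smul, hx₁, hx₂])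
  rw [g0, div_mul_cancel₀ _ (sub_ne_zero.2 hzz.symm), h.add_left, hy',
    b_cross' hs b1 (by rw [map_add, map_smul, map_smul, hz0, hz0', smul_zero, smul_zero, add_zero]), add_zero] at b4
  exact one_ne_zero b4

end Cfsg.Agent.TH.Cl
end
end
end
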